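import Mathlib

/-!
# Recognition of the affine group of the plane over the field with four elements
-/

set_option autoImplicit false
set_option linter.unusedSectionVars false
set_option linter.style.haveILetI false

namespace Cfsg.Agent.H6.AFour.CaseC

open MulAction Polynomial

theorem irreducible_fourPoly : Irreducible (X ^ 2 + X + 1 : (ZMod 2)[X]) := by
  have hdeg : (X ^ 2 + X + 1 : (ZMod 2)[X]).natDegree = 2 := by compute_degree!
  refine Polynomial.irreducible_of_degree_le_three_of_not_isRoot (by rw [hdeg]; decide) fun x => ?_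
  simp only [IsRoot, eval_add, eval_pow, eval_X, eval_one]
  revert x
  decide

instance fact_irreducible_fourPoly : Fact (Irreducible (X ^ 2 + X + 1 : (ZMod 2)[X])) :=
  ⟨irreducible_fourPoly⟩

/-- A field with four elements. -/
abbrev FourField : Type := AdjoinRoot (X ^ 2 + X + 1 : (ZMod 2)[X])

theorem fourPoly_monic : (X ^ 2 + X + 1 : (ZMod 2)[X]).Monic := by monicity!

noncomputable instance fintype_fourField : Fintype FourField :=
  haveI : Module.Finite (ZMod 2) FourField :=
    Module.Finite.of_basis (AdjoinRoot.powerBasis' fourPoly_monic).basis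
  @Fintype.ofFinite _ (Module.finite_of_finite (ZMod 2))

theorem card_fourField : Fintype.card FourField = 4 := by
  have hdeg : (X ^ 2 + X + 1 : (ZMod 2)[X]).natDegree = 2 := by compute_degree!
  rw [Module.card_fintype (AdjoinRoot.powerBasis' fourPoly_monic).basis, ZMod.card, Fintype.card_fin,
    AdjoinRoot.powerBasis'_dim, hdeg]
  norm_num

variable {G Ω : Type*} [Group G] [Finite G] [MulAction G Ω] [FaithfulSMul G Ω]

set_option maxHeartbeats 1000000 in
/-- A group of order `2880` on `16` points with a regular normal elementary abelian subgroup and a central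
fixed-point-free element of order three in a point stabiliser is the affine group. -/
theorem affine_recognition (hG : Nat.card G = 2880) (E : Subgroup G) (hEn : E.Normal)
    (hEc : Nat.card ↥E = 16) (hsq : ∀ a ∈ E, a * a = 1) (hcomm : ∀ a ∈ E, ∀ b ∈ E, a * b = b * a)
    (hfree : ∀ a ∈ E, ∀ w : Ω, a • w = w → a = 1) (htr : ∀ x y : Ω, ∃ a ∈ E, a • x = y) {a : Ω}
    {z : G} (hz3 : z * z * z = 1) (hza : z • a = a) (hzfix : ∀ w : Ω, z • w = w → w = a)
    (hzc : ∀ g : G, g • a = a → g * z = z * g) :
    ∃ (F : Type) (_ : Field F) (_ : Fintype F), Fintype.card F = 4 ∧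
      Nonempty (G ≃* ((Fin 2 → F) ≃ᵃ[F] (Fin 2 → F))) := by
  classical
  haveI := hEn
  letI : CommGroup ↥E := { (inferInstance : Group ↥E) with
    mul_comm := fun x y => Subtype.ext (hcomm x x.2 y y.2) }
  letI : Module (ZMod 2) (Additive ↥E) := AddCommGroup.zmodModule (n := 2) fun x => by
    rw [two_nsmul]
    exact Additive.toMul.injective (Subtype.ext (hsq _ (Additive.toMul x).2))
  let conjHom : G → (Additive ↥E →ₗ[ZMod 2] Additive ↥E) := fun g =>
    AddMonoidHom.toZModLinearMap 2 (MonoidHom.toAdditive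
      ((MulAut.conjNormal g : MulAut ↥E).toMonoidHom))
  have hconj : ∀ (g : G) (b : Additive ↥E),
      ((Additive.toMul (conjHom g b) : ↥E) : G) = g * (Additive.toMul b : ↥E) * g⁻¹ := fun g b => rfl
  set ζ : Module.End (ZMod 2) (Additive ↥E) := conjHom z with hζ
  have hrel : ∀ x : Additive ↥E, ζ (ζ x) + ζ x + x = 0 := by
    intro x
    refine Additive.toMul.injective (Subtype.ext ?_)
    set b : G := ((Additive.toMul x : ↥E) : G)
    have hb : b ∈ E := (Additive.toMul x : ↥E).2
    show (z * (z * b * z⁻¹) * z⁻¹) * (z * b * z⁻¹) * b = 1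
    set w := (z * (z * b * z⁻¹) * z⁻¹) * (z * b * z⁻¹) * b with hw
    have hc1 : z * b * z⁻¹ ∈ E := hEn.conj_mem b hb z
    have hc2 : z * (z * b * z⁻¹) * z⁻¹ ∈ E := hEn.conj_mem _ hc1 z
    have hwE : w ∈ E := mul_mem (mul_mem hc2 hc1) hb
    have hzw : z * w * z⁻¹ = w := by
      have e : z * w * z⁻¹ = (z * z * z) * b * (z * z * z)⁻¹ * (z * (z * b * z⁻¹) * z⁻¹) * (z * b * z⁻¹) := by
        rw [hw]; group
      rw [e, hz3, one_mul, inv_one, mul_one, hw]
      rw [hcomm b hb _ hc2, mul_assoc, hcomm b hb _ hc1, ← mul_assoc]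
    refine hfree w hwE a (hzfix _ ?_)
    conv_rhs => rw [← hzw, mul_smul, mul_smul, inv_smul_eq_iff.2 hza.symm]
  have haeval : aeval ζ (X ^ 2 + X + 1 : (ZMod 2)[X]) = 0 := by
    refine LinearMap.ext fun x => ?_
    simp only [map_add, map_mul, map_one, aeval_X, pow_two, LinearMap.add_apply, Module.End.mul_apply,
      Module.End.one_apply, LinearMap.zero_apply]
    exact hrel x
  let ρ : FourField →+* Module.End (ZMod 2) (Additive ↥E) :=
    Ideal.Quotient.lift (Ideal.span {(X ^ 2 + X + 1 : (ZMod 2)[X])}) (aeval ζ).toRingHom fun p hp => by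
      obtain ⟨q, rfl⟩ := Ideal.mem_span_singleton'.1 hp
      show aeval ζ (q * _) = 0
      rw [map_mul, haeval, mul_zero]
  letI : Module FourField (Additive ↥E) := Module.compHom _ ρ
  have hlin : ∀ (g : G) (c : FourField) (x : Additive ↥E), conjHom g (c • x) = c • conjHom g x := by
    intro g c x
    have hcz : Commute (conjHom g : Module.End (ZMod 2) (Additive ↥E)) ζ := by
      refine LinearMap.ext fun y => Additive.toMul.injective (Subtype.ext ?_)
      show g * (z * ((Additive.toMul y : ↥E) : G) * z⁻¹) * g⁻¹ = z * (g * ((Additive.toMul y : ↥E) : G) * g⁻¹) * z⁻¹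
      obtain ⟨n, hn, hna⟩ := htr a (g • a)
      set b : G := ((Additive.toMul y : ↥E) : G)
      have hb : b ∈ E := (Additive.toMul y : ↥E).2
      have hh : (n⁻¹ * g) • a = a := by rw [mul_smul, ← hna, inv_smul_smul]
      obtain ⟨k, rfl⟩ : ∃ k, g = n * k := ⟨n⁻¹ * g, by group⟩
      rw [inv_mul_cancel_left] at hh
      have hkz := hzc k hh
      have key : ∀ c ∈ E, n * c * n⁻¹ = c := fun c hc => by rw [hcomm n hn c hc, mul_inv_cancel_right]
      calc n * k * (z * b * z⁻¹) * (n * k)⁻¹ = n * ((k * z) * b * (k * z)⁻¹) * n⁻¹ := by group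
        _ = (k * z) * b * (k * z)⁻¹ := key _ (hEn.conj_mem b hb _)
        _ = z * (k * b * k⁻¹) * z⁻¹ := by rw [hkz]; group
        _ = z * (n * (k * b * k⁻¹) * n⁻¹) * z⁻¹ := by rw [key _ (hEn.conj_mem b hb k)]
        _ = z * (n * k * b * (n * k)⁻¹) * z⁻¹ := by group
    have hall : ∀ p : (ZMod 2)[X],
        Commute (conjHom g : Module.End (ZMod 2) (Additive ↥E)) (aeval ζ p) := fun p => by
      induction p using Polynomial.induction_on' with
      | add p q hp hq => rw [map_add]; exact hp.add_right hq
      | monomial n r =>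
        rw [aeval_monomial]
        exact (Algebra.commute_algebraMap_right r _).mul_right (hcz.pow_right n)
    obtain ⟨p, rfl⟩ := AdjoinRoot.mk_surjective c
    exact LinearMap.congr_fun (hall p).eq x
  have hcardA : Nat.card (Additive ↥E) = 16 := hEc
  haveI : Fintype (Additive ↥E) := Fintype.ofFinite _
  haveI : Module.Finite FourField (Additive ↥E) := Module.Finite.of_finite
  have hfin : Module.finrank FourField (Additive ↥E) = 2 := by
    have h := Module.card_eq_pow_finrank (K := FourField) (V := Additive ↥E)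
    rw [card_fourField, ← Nat.card_eq_fintype_card, hcardA] at h
    exact (Nat.pow_right_injective (le_refl 2 |>.trans (by norm_num : 2 ≤ 4)) (h.symm.trans (by norm_num : 16 = 4 ^ 2)))
  let ψ : Additive ↥E ≃ₗ[FourField] (Fin 2 → FourField) :=
    (Module.finBasisOfFinrankEq FourField (Additive ↥E) hfin).equivFun
  let pt : Additive ↥E ≃ Ω := Equiv.ofBijective (fun x => ((Additive.toMul x : ↥E) : G) • a)
    ⟨fun x y hxy => Additive.toMul.injective (Subtype.ext (inv_mul_eq_one.1 (hfree _
      (mul_mem (E.inv_mem (Additive.toMul y : ↥E).2) (Additive.toMul x : ↥E).2) a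
      (by rw [mul_smul, inv_smul_eq_iff]; exact hxy))).symm),
     fun w => by
      obtain ⟨b, hb, e⟩ := htr a w
      exact ⟨Additive.ofMul ⟨b, hb⟩, e⟩⟩
  have hpt : ∀ x, pt x = ((Additive.toMul x : ↥E) : G) • a := fun x => rfl
  have hadd : ∀ (g : G) (x : Additive ↥E), pt.symm (g • pt x) = conjHom g x + pt.symm (g • a) := by
    intro g x
    rw [Equiv.symm_apply_eq, hpt, hpt, toMul_add, Subgroup.coe_mul, hconj, mul_smul _ _ a, ← hpt (pt.symm _),
      Equiv.apply_symm_apply, mul_smul, mul_smul, inv_smul_smul]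
  let lin : G → ((Fin 2 → FourField) ≃ₗ[FourField] (Fin 2 → FourField)) := fun g =>
    (ψ.symm.trans
      { toFun := conjHom g
        map_add' := (conjHom g).map_add
        map_smul' := fun c x => hlin g c x
        invFun := conjHom g⁻¹
        left_inv := fun x => Additive.toMul.injective (Subtype.ext (by rw [hconj, hconj]; group))
        right_inv := fun x => Additive.toMul.injective (Subtype.ext (by rw [hconj, hconj]; group)) }).trans ψ
  let pe : Ω ≃ (Fin 2 → FourField) := pt.symm.trans ψ.toEquiv
  let toAff : G → ((Fin 2 → FourField) ≃ᵃ[FourField] (Fin 2 → FourField)) := fun g =>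
    { toEquiv := (pe.symm.trans (MulAction.toPerm g)).trans pe
      linear := lin g
      map_vadd' := fun p v => by
        show ψ (pt.symm (g • pt (ψ.symm (v + p)))) = ψ (conjHom g (ψ.symm v)) + ψ (pt.symm (g • pt (ψ.symm p)))
        rw [hadd, hadd, ← map_add ψ, map_add ψ.symm, map_add (conjHom g)]
        exact congrArg ψ (add_assoc _ _ _) }
  have happ : ∀ g v, toAff g v = pe (g • pe.symm v) := fun g v => rfl
  let Φ : G →* ((Fin 2 → FourField) ≃ᵃ[FourField] (Fin 2 → FourField)) :=
    { toFun := toAff
      map_one' := AffineEquiv.ext fun v => by rw [happ, one_smul, Equiv.apply_symm_apply]; rfl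
      map_mul' := fun g g' => AffineEquiv.ext fun v => by
        rw [happ, AffineEquiv.mul_def, AffineEquiv.trans_apply, happ, happ, Equiv.symm_apply_apply,
          mul_smul] }
  have hinj : Function.Injective Φ := fun g g' h => eq_of_smul_eq_smul fun w : Ω => by
    have := congrArg (fun f : (Fin 2 → FourField) ≃ᵃ[FourField] (Fin 2 → FourField) => f (pe w)) h
    simp only [Φ, MonoidHom.coe_mk, OneHom.coe_mk, happ, Equiv.symm_apply_apply] at this
    exact pe.injective this
  haveI : Finite ((Fin 2 → FourField) ≃ᵃ[FourField] (Fin 2 → FourField)) :=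
    Finite.of_injective _ (AffineEquiv.toEquiv_injective)
  have hle : Nat.card ((Fin 2 → FourField) ≃ᵃ[FourField] (Fin 2 → FourField)) ≤ 2880 := by
    let V := Fin 2 → FourField
    have hGL : Nat.card (V ≃ₗ[FourField] V) = 180 := by
      rw [← Nat.card_congr (LinearMap.GeneralLinearGroup.generalLinearEquiv FourField V).toEquiv,
        ← Nat.card_congr (Matrix.GeneralLinearGroup.toLin (n := Fin 2) (R := FourField)).toEquiv,
        Matrix.card_GL_field, Fin.prod_univ_two, card_fourField]
      norm_num
    haveI : Finite (V ≃ₗ[FourField] V) := Nat.finite_of_card_ne_zero (by rw [hGL]; norm_num)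
    refine (Nat.card_le_card_of_injective (fun f : V ≃ᵃ[FourField] V => (f 0, f.linear)) ?_).trans ?_
    · intro f f' h
      rw [Prod.mk.injEq] at h
      refine AffineEquiv.ext fun v => ?_
      have e1 := f.map_vadd 0 v
      have e2 := f'.map_vadd 0 v
      rw [vadd_eq_add, add_zero] at e1 e2
      rw [e1, e2, h.1, h.2]
    · rw [Nat.card_prod, hGL, Nat.card_eq_fintype_card, Fintype.card_fun, Fintype.card_fin, card_fourField]
      norm_num
  exact ⟨FourField, inferInstance, inferInstance, card_fourField,
    ⟨MulEquiv.ofBijective Φ (hinj.bijective_of_nat_card_le (by rw [hG]; exact hle))⟩⟩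

end Cfsg.Agent.H6.AFour.CaseC
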