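import Cfsg.Agent.H6.AFour.CaseC.KleinShape
import Cfsg.Agent.H1.Asch.FourCount

/-!
# Orders in a group with a four group Sylow 2-subgroup and one class of involutions
-/

set_option autoImplicit false
set_option linter.unusedSectionVars false
set_option linter.style.haveILetI false

namespace Cfsg.Agent.H6.AFour.CaseC

open Subgroup

universe u

variable {H : Type u} [Group H] [Finite H]

/-- The order of a subgroup through a quotient. -/
theorem card_eq_inf_mul_map (N : Subgroup H) [N.Normal] (C : Subgroup H) :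
    Nat.card ↥C = Nat.card ↥(N ⊓ C) * Nat.card ↥(C.map (QuotientGroup.mk' N)) := by
  have h := ((QuotientGroup.mk' N).comp C.subtype).ker.card_mul_index
  rw [Subgroup.index_ker] at h
  rw [← h]
  congr 1
  · refine Nat.card_congr
      { toFun := fun x => ⟨x.1.1, (QuotientGroup.eq_one_iff _).1 x.2, x.1.2⟩
        invFun := fun x => ⟨⟨x.1, x.2.2⟩, (QuotientGroup.eq_one_iff _).2 x.2.1⟩
        left_inv := fun _ => rfl
        right_inv := fun _ => rfl }
  · rw [MonoidHom.range_comp, Subgroup.range_subtype]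

/-- `|C(t)| = u m |C(V)|` and twice the number of involutions is `u² (4 m + ε) (4 m + 2 ε)`. -/
theorem klein_order (V : Sylow 2 H) (h4 : Nat.card ↥(V : Subgroup H) = 4)
    (hexp : ∀ x ∈ (V : Subgroup H), x * x = 1)
    (hone : ∀ a b : H, orderOf a = 2 → orderOf b = 2 → IsConj a b)
    {t : H} (htV : t ∈ (V : Subgroup H)) (t1 : t ≠ 1) :
    ∃ (u m : ℕ) (ε : ℤ), 1 ≤ u ∧ 1 ≤ m ∧ (ε = 1 ∨ ε = -1) ∧
      Nat.card ↥(centralizer ({t} : Set H)) =
        u * m * Nat.card ↥(centralizer ((V : Subgroup H) : Set H)) ∧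
      2 * ((centralizer ({t} : Set H)).index : ℤ) = (u : ℤ) ^ 2 * ((4 * m + ε) * (4 * m + 2 * ε)) := by
  classical
  haveI : Fact (Nat.Prime 2) := ⟨Nat.prime_two⟩
  set O := Cfsg.oddCore H with hOdef
  haveI : O.Normal := H68.GenDihedral.oddCore_normal
  have hOodd : Odd (Nat.card ↥O) := Cores.odd_card_oddCore
  have hOcop : (Nat.card ↥O).Coprime 2 := Nat.coprime_two_right.2 hOodd
  set π := QuotientGroup.mk' O with hπ
  have hπs : Function.Surjective π := QuotientGroup.mk'_surjective O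
  have hVO : ∀ x ∈ (V : Subgroup H), x ∈ O → x = 1 := fun x hx hxO => by
    have h1 : orderOf x ∣ 2 := orderOf_dvd_of_pow_eq_one (by rw [pow_two]; exact hexp x hx)
    exact orderOf_eq_one_iff.1 (Nat.eq_one_of_dvd_coprimes hOcop (O.orderOf_dvd_natCard hxO) h1)
  let Vb : Sylow 2 (H ⧸ O) := V.mapSurjective hπs
  have hVb : (Vb : Subgroup (H ⧸ O)) = (V : Subgroup H).map π := rfl
  have h4b : Nat.card ↥(Vb : Subgroup (H ⧸ O)) = 4 := by
    rw [hVb, ← h4]
    refine (Nat.card_congr (Equiv.ofBijective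
      (fun x : ↥(V : Subgroup H) => (⟨π x, mem_map_of_mem π x.2⟩ : ↥((V : Subgroup H).map π))) ⟨?_, ?_⟩)).symm
    · intro a b hab
      have h1 : (a : H)⁻¹ * b ∈ O := QuotientGroup.eq.1 (congrArg Subtype.val hab)
      exact Subtype.ext (inv_mul_eq_one.1 (hVO _ (mul_mem (inv_mem a.2) b.2) h1))
    · rintro ⟨_, x, hx, rfl⟩
      exact ⟨⟨x, hx⟩, rfl⟩
  have hexpb : ∀ x ∈ (Vb : Subgroup (H ⧸ O)), x * x = 1 := by
    rintro _ ⟨x, hx, rfl⟩
    rw [← map_mul, hexp x hx, map_one]
  have honeb : ∀ a b : H ⧸ O, orderOf a = 2 → orderOf b = 2 → IsConj a b := by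
    have key : ∀ a : H ⧸ O, orderOf a = 2 → IsConj (π t) a := by
      intro a ha
      have hp : IsPGroup 2 ↥(zpowers a) := IsPGroup.of_card (n := 1) (by
        rw [Nat.card_zpowers, ha, pow_one])
      obtain ⟨R, hR⟩ := hp.exists_le_sylow
      obtain ⟨g, hg⟩ := MulAction.exists_smul_eq (H ⧸ O) Vb R
      have haR := hR (mem_zpowers a)
      rw [← hg, Sylow.smul_def, Sylow.pointwise_smul_def,
        Subgroup.mem_pointwise_smul_iff_inv_smul_mem] at haR
      have haR' : g⁻¹ * a * g ∈ (V : Subgroup H).map π := by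
        simpa [MulAut.smul_def, mul_assoc, hVb] using haR
      obtain ⟨x, hx, hxa⟩ := haR'
      have hx1 : x ≠ 1 := fun e => by
        rw [e, map_one] at hxa
        have : a = 1 := by
          rw [show a = g * (g⁻¹ * a * g) * g⁻¹ by group, ← hxa]; group
        rw [this, orderOf_one] at ha
        omega
      obtain ⟨c, hc⟩ := isConj_iff.1 (hone t x
        (orderOf_eq_prime (by rw [pow_two]; exact hexp t htV) t1)
        (orderOf_eq_prime (by rw [pow_two]; exact hexp x hx) hx1))
      refine isConj_iff.2 ⟨g * π c, ?_⟩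
      rw [mul_inv_rev, show g * π c * π t * ((π c)⁻¹ * g⁻¹) = g * (π c * π t * (π c)⁻¹) * g⁻¹ by group,
        ← map_inv, ← map_mul, ← map_mul, hc, hxa]
      group
    exact fun a b ha hb => (key a ha).symm.trans (key b hb)
  have hOb : Cfsg.oddCore (H ⧸ O) = ⊥ := Cores.pPrimeCore_quotient_pPrimeCore
  have htb : π t ∈ (Vb : Subgroup (H ⧸ O)) := mem_map_of_mem π htV
  have htb1 : π t ≠ 1 := fun e => t1 (hVO t htV ((QuotientGroup.eq_one_iff t).1 e))
  obtain ⟨m, ε, hm, hε, hCm, hΓ⟩ := klein_bar Vb h4b hexpb honeb hOb htb htb1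
  -- centralisers in the quotient
  have htp : IsPGroup 2 ↥(zpowers t) := IsPGroup.of_card (n := 1) (by
    rw [Nat.card_zpowers, orderOf_eq_prime (p := 2) (by rw [pow_two]; exact hexp t htV) t1, pow_one])
  have hsingle : ∀ {X : Type u} [Group X] (x : X),
      centralizer ((zpowers x : Subgroup X) : Set X) = centralizer ({x} : Set X) := fun x => by
    rw [zpowers_eq_closure, centralizer_closure]
  have hCt : (centralizer ({t} : Set H)).map π = centralizer ({π t} : Set (H ⧸ O)) := by
    rw [← hsingle t, ← hsingle (π t), Cores.map_centralizer_of_coprime O hOcop htp,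
      MonoidHom.map_zpowers]
  have hCV : (centralizer ((V : Subgroup H) : Set H)).map π =
      centralizer ((Vb : Subgroup (H ⧸ O)) : Set (H ⧸ O)) := by
    rw [Cores.map_centralizer_of_coprime O hOcop V.2, hVb]
  rw [← hCt] at hCm hΓ
  rw [← hCV] at hCm
  have hcardC := card_eq_inf_mul_map O (centralizer ({t} : Set H))
  have hcardV := card_eq_inf_mul_map O (centralizer ((V : Subgroup H) : Set H))
  set ct := Nat.card ↥(O ⊓ centralizer ({t} : Set H)) with hct
  set c := Nat.card ↥(O ⊓ centralizer ((V : Subgroup H) : Set H)) with hc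
  obtain ⟨w, hw⟩ : c ∣ ct := card_dvd_of_le
    (inf_le_inf_left O (centralizer_le (Set.singleton_subset_iff.2 htV)))
  have hcpos : 0 < c := Nat.card_pos
  have hctpos : 0 < ct := Nat.card_pos
  have hwpos : 1 ≤ w := Nat.pos_of_ne_zero fun e => by rw [e, mul_zero] at hw; omega
  -- Brauer-Wielandt
  obtain ⟨s, hs, s1, hst⟩ : ∃ s ∈ (V : Subgroup H), s ≠ 1 ∧ s ≠ t := by
    by_contra hcon
    push Not at hcon
    have hsub : ((V : Subgroup H) : Set H) ⊆ {1, t} := fun x hx => by
      by_cases x1 : x = 1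
      · exact Or.inl x1
      · exact Or.inr (hcon x hx x1)
    have := (Set.ncard_le_ncard hsub (Set.toFinite _)).trans (Set.ncard_insert_le _ _)
    rw [← Nat.card_coe_set_eq, Set.ncard_singleton] at this
    have h' : Nat.card ↥(((V : Subgroup H) : Set H)) = 4 := h4
    omega
  have hts : Commute t s := by
    show t * s = s * t
    rw [← inv_eq_of_mul_eq_one_right (hexp _ (mul_mem htV hs)), mul_inv_rev,
      inv_eq_of_mul_eq_one_right (hexp t htV), inv_eq_of_mul_eq_one_right (hexp s hs)]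
  have hfix : ∀ a : H, a ∈ (V : Subgroup H) → a ≠ 1 →
      Nat.card ↥(O ⊓ centralizer ({a} : Set H)) = ct := by
    intro a ha a1
    obtain ⟨g, hg⟩ := isConj_iff.1 (hone t a
      (orderOf_eq_prime (by rw [pow_two]; exact hexp t htV) t1)
      (orderOf_eq_prime (by rw [pow_two]; exact hexp a ha) a1))
    rw [hct]
    refine Nat.card_congr ((MulAut.conj g⁻¹).toEquiv.subtypeEquiv fun x => ?_)
    have hOconj : g⁻¹ * x * g⁻¹⁻¹ ∈ O ↔ x ∈ O := by
      refine ⟨fun h => ?_, fun h => Subgroup.Normal.conj_mem inferInstance x h g⁻¹⟩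
      simpa [mul_assoc] using Subgroup.Normal.conj_mem inferInstance _ h g
    show x ∈ O ⊓ centralizer {a} ↔ g⁻¹ * x * g⁻¹⁻¹ ∈ O ⊓ centralizer {t}
    rw [mem_inf, mem_inf, hOconj, mem_centralizer_singleton_iff, mem_centralizer_singleton_iff, ← hg]
    refine and_congr_right fun _ => ⟨fun h => ?_, fun h => ?_⟩
    · calc g⁻¹ * x * g⁻¹⁻¹ * t = g⁻¹ * (x * (g * t * g⁻¹)) * g := by group
        _ = g⁻¹ * (g * t * g⁻¹ * x) * g := by rw [h]
        _ = t * (g⁻¹ * x * g⁻¹⁻¹) := by group
    · calc x * (g * t * g⁻¹) = g * (g⁻¹ * x * g⁻¹⁻¹ * t) * g⁻¹ := by group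
        _ = g * (t * (g⁻¹ * x * g⁻¹⁻¹)) * g⁻¹ := by rw [h]
        _ = g * t * g⁻¹ * x := by group
  have hVgen : O ⊓ centralizer ({t, s} : Set H) = O ⊓ centralizer ((V : Subgroup H) : Set H) := by
    refine le_antisymm (fun x hx => ⟨hx.1, ?_⟩)
      (inf_le_inf_left O (centralizer_le (Set.insert_subset htV (Set.singleton_subset_iff.2 hs))))
    refine mem_centralizer_iff.2 fun v hv => ?_
    have h1 := mem_centralizer_iff.1 hx.2 t (Or.inl rfl)
    have h2 := mem_centralizer_iff.1 hx.2 s (Or.inr rfl)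
    rcases four_mem h4 hexp htV hs t1 s1 hst hv with rfl | rfl | rfl | rfl
    · rw [one_mul, mul_one]
    · exact h1
    · exact h2
    · rw [mul_assoc, h2, ← mul_assoc, h1, mul_assoc]
  have hBW := H1.Asch.card_mul_fix_sq (x := t) (y := s) (O := O) (hexp t htV) (hexp s hs) hts hOodd
    (fun g hg => Subgroup.Normal.conj_mem inferInstance g hg t)
    (fun g hg => Subgroup.Normal.conj_mem inferInstance g hg s)
  rw [hVgen, hfix s hs s1, hfix (t * s) (mul_mem htV hs) (fun e => hst (by
    rw [← inv_eq_of_mul_eq_one_right e, inv_eq_of_mul_eq_one_right (hexp t htV)]))] at hBW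
  rw [← hct, ← hc] at hBW
  have hO' : Nat.card ↥O = ct * (w * w) := by
    refine Nat.eq_of_mul_eq_mul_right (Nat.pow_pos (n := 2) hcpos) (hBW.trans ?_)
    rw [hw]; ring
  refine ⟨w, m, ε, hwpos, hm, hε, ?_, ?_⟩
  · rw [hcardC, hcardV, hCm, hw]
    ring
  · have h1 := (centralizer ({t} : Set H)).index_mul_card
    have h2 := ((centralizer ({t} : Set H)).map π).index_mul_card
    have h3 : Nat.card H = Nat.card (H ⧸ O) * Nat.card ↥O := card_eq_card_quotient_mul_card_subgroup O
    rw [hcardC, h3, hO', ← h2] at h1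
    have h4' : (centralizer ({t} : Set H)).index =
        (w * w) * ((centralizer ({t} : Set H)).map π).index := by
      refine Nat.eq_of_mul_eq_mul_right (Nat.mul_pos hctpos
        (Nat.card_pos (α := ↥((centralizer ({t} : Set H)).map π)))) (h1.trans ?_)
      ring
    rw [h4']
    push_cast
    linear_combination ((w : ℤ) ^ 2) * hΓ

end Cfsg.Agent.H6.AFour.CaseC
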