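import Cfsg.Agent.H88.Walter.PiecePSL
import Cfsg.Agent.H15.Ward.PslLocal

/-!
# `PSL(2, q)` with a four group Sylow 2-subgroup: orders
-/

set_option autoImplicit false

namespace Cfsg.Agent.H6.AFour.CaseC

open Subgroup Cfsg.Agent.Linear.Dickson

variable {F : Type*} [Field F] [Fintype F]

local notation "P2" => Matrix.ProjectiveSpecialLinearGroup (Fin 2) F

theorem four_dvd_psl (hodd : Odd (Fintype.card F)) : 4 ∣ Nat.card P2 := by
  have h := H15.Ward.two_mul_card_psl (F := F) hodd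
  obtain ⟨k, hk⟩ := hodd
  obtain ⟨j, hj⟩ : 2 ∣ k * (k + 1) := even_iff_two_dvd.1 (Nat.even_mul_succ_self k)
  rw [hk, Nat.add_sub_cancel,
    show (2 * k + 1) * (2 * k) * (2 * k + 1 + 1) = 4 * (2 * k + 1) * (k * (k + 1)) by ring, hj] at h
  exact ⟨(2 * k + 1) * j, by
    rw [← mul_assoc 4]
    exact Nat.eq_of_mul_eq_mul_left two_pos (h.trans (by ring))⟩

theorem card_mod_eight (hodd : Odd (Fintype.card F)) (h8 : ¬ 8 ∣ Nat.card P2) :
    Fintype.card F % 8 = 3 ∨ Fintype.card F % 8 = 5 := by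
  have h := H15.Ward.two_mul_card_psl (F := F) hodd
  have h2 : Fintype.card F % 2 = 1 := Nat.odd_iff.1 hodd
  by_contra hcon
  have hc : Fintype.card F % 8 = 1 ∨ Fintype.card F % 8 = 7 := by omega
  apply h8
  obtain ⟨c, hc'⟩ : 16 ∣ Fintype.card F * (Fintype.card F - 1) * (Fintype.card F + 1) := by
    rcases hc with hc | hc
    · obtain ⟨j, hj⟩ : ∃ j, Fintype.card F = 8 * j + 1 := ⟨Fintype.card F / 8, by omega⟩
      rw [hj, Nat.add_sub_cancel]
      exact ⟨(8 * j + 1) * j * (4 * j + 1), by ring⟩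
    · obtain ⟨j, hj⟩ : ∃ j, Fintype.card F = 8 * j + 7 := ⟨Fintype.card F / 8, by omega⟩
      rw [hj, show 8 * j + 7 - 1 = 2 * (4 * j + 3) by omega]
      exact ⟨(8 * j + 7) * (4 * j + 3) * (j + 1), by ring⟩
  exact ⟨c, by omega⟩

/-- The order of an involution centraliser, the parameters `m` and `ε`. -/
theorem psl_orders (hodd : Odd (Fintype.card F)) (h8 : ¬ 8 ∣ Nat.card P2) {v : P2} (hv1 : v ≠ 1)
    (hv : v * v = 1) :
    ∃ (m : ℕ) (ε : ℤ), 1 ≤ m ∧ (ε = 1 ∨ ε = -1) ∧ Nat.card (centralizer ({v} : Set P2)) = 4 * m ∧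
      2 * (Nat.card P2 : ℤ) = 4 * m * ((4 * m + ε) * (4 * m + 2 * ε)) := by
  have hq := card_mod_eight hodd h8
  obtain ⟨hm2, hm⟩ := H88.Walter.PSL.card_cen_mod hq hv1 hv
  have hN := (torus_normalizer_props (H88.Walter.PSL.not_isUni hodd hv1 hv)).1
  rw [← H88.Walter.PSL.centralizer_eq hodd hv1 hv] at hN
  have h := H15.Ward.two_mul_card_psl (F := F) hodd
  obtain ⟨j, hj⟩ : ∃ j, Nat.card (cen v) = 2 * j := ⟨Nat.card (cen v) / 2, by omega⟩
  have hq1 : 1 ≤ Fintype.card F := Fintype.card_pos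
  rw [hj] at hm hN hm2
  rcases hm with e | e
  · refine ⟨j, 1, by omega, Or.inl rfl, by rw [hN]; ring, ?_⟩
    rw [show Fintype.card F = 4 * j + 1 by omega, Nat.add_sub_cancel] at h
    have h' : 2 * (Nat.card P2 : ℤ) = ((4 * j + 1) * (4 * j) * (4 * j + 1 + 1) : ℕ) := by
      exact_mod_cast h
    rw [h']
    push_cast
    ring
  · refine ⟨j, -1, by omega, Or.inr rfl, by rw [hN]; ring, ?_⟩
    obtain ⟨i, rfl⟩ : ∃ i, j = i + 1 := ⟨j - 1, by omega⟩
    rw [show Fintype.card F = 4 * i + 3 by omega, show 4 * i + 3 - 1 = 4 * i + 2 by omega] at h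
    have h' : 2 * (Nat.card P2 : ℤ) = ((4 * i + 3) * (4 * i + 2) * (4 * i + 3 + 1) : ℕ) := by
      exact_mod_cast h
    rw [h']
    push_cast
    ring

end Cfsg.Agent.H6.AFour.CaseC
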