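import Cfsg.Agent.H6.AFour.CaseC.KleinPSL
import Cfsg.Agent.H68.GenDihedral.Quotient
import Cfsg.Agent.H70.SameFix.Basic
import Cfsg.Agent.S0483

/-!
# Core-free groups with a four group Sylow 2-subgroup and one class of involutions
-/

set_option autoImplicit false
set_option linter.unusedSectionVars false
set_option linter.style.haveILetI false

namespace Cfsg.Agent.H6.AFour.CaseC

open Subgroup

universe u

variable {Y : Type u} [Group Y] [Finite Y]

/-- The elements of a group of order four of exponent two. -/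
theorem four_mem {V : Subgroup Y} (h4 : Nat.card ↥V = 4) (hexp : ∀ x ∈ V, x * x = 1) {t v : Y}
    (ht : t ∈ V) (hv : v ∈ V) (t1 : t ≠ 1) (v1 : v ≠ 1) (hvt : v ≠ t) {x : Y} (hx : x ∈ V) :
    x = 1 ∨ x = t ∨ x = v ∨ x = t * v := by
  have hti : t⁻¹ = t := inv_eq_of_mul_eq_one_right (hexp t ht)
  have e1 : t * v ≠ 1 := fun e => hvt (by rw [← inv_eq_of_mul_eq_one_right e, hti])
  have e2 : t * v ≠ t := fun e => v1 (mul_eq_left.1 e)
  have e3 : t * v ≠ v := fun e => t1 (mul_eq_right.1 e)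
  have hsub : ({1, t, v, t * v} : Set Y) ⊆ (V : Set Y) := by
    rintro a (rfl | rfl | rfl | rfl)
    exacts [V.one_mem, ht, hv, mul_mem ht hv]
  have hc : ({1, t, v, t * v} : Set Y).ncard = 4 := by
    rw [Set.ncard_insert_of_notMem, Set.ncard_insert_of_notMem, Set.ncard_pair e3.symm]
    · simp [hvt.symm, e2.symm]
    · simp [t1.symm, v1.symm, e1.symm]
  have := Set.eq_of_subset_of_ncard_le hsub (by rw [hc, ← Nat.card_coe_set_eq]; exact h4.le)
    (Set.toFinite _)
  have hx' : x ∈ ({1, t, v, t * v} : Set Y) := this.symm ▸ hx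
  simpa using hx'

/-- An element normalising a Sylow four group and fixing one of its involutions centralises it. -/
theorem cent_of_normalizer_fix (V : Sylow 2 Y) (h4 : Nat.card ↥(V : Subgroup Y) = 4)
    (hexp : ∀ x ∈ (V : Subgroup Y), x * x = 1) {t : Y} (ht : t ∈ (V : Subgroup Y)) (t1 : t ≠ 1)
    {g : Y} (hg : g ∈ normalizer ((V : Subgroup Y) : Set Y)) (hgt : Commute g t) :
    g ∈ centralizer ((V : Subgroup Y) : Set Y) := by
  have hcomm : ∀ a ∈ (V : Subgroup Y), ∀ b ∈ (V : Subgroup Y), a * b = b * a := fun a ha b hb => by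
    rw [← inv_eq_of_mul_eq_one_right (hexp _ (mul_mem ha hb)), mul_inv_rev,
      inv_eq_of_mul_eq_one_right (hexp a ha), inv_eq_of_mul_eq_one_right (hexp b hb)]
  have hsq : g * g ∈ centralizer ((V : Subgroup Y) : Set Y) := by
    refine mem_centralizer_iff.2 fun v hv => ?_
    suffices h : g * g * v * (g * g)⁻¹ = v from (mul_inv_eq_iff_eq_mul.1 h).symm
    by_cases v1 : v = 1
    · rw [v1, mul_one, mul_inv_cancel]
    by_cases hvt : v = t
    · rw [hvt, ((hgt.mul_left hgt)).eq, mul_inv_cancel_right]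
    have hgv : g * v * g⁻¹ ∈ (V : Subgroup Y) := (mem_normalizer_iff.1 hg v).1 hv
    have hgt' : g * t * g⁻¹ = t := by rw [hgt.eq, mul_inv_cancel_right]
    have he : g * g * v * (g * g)⁻¹ = g * (g * v * g⁻¹) * g⁻¹ := by group
    rcases four_mem h4 hexp ht hv t1 v1 hvt hgv with e | e | e | e
    · exact absurd (conj_eq_one_iff.1 e) v1
    · exact absurd (mul_left_cancel (mul_right_cancel (e.trans hgt'.symm))) hvt
    · rw [he, e, e]
    · rw [he, e, show g * (t * v) * g⁻¹ = (g * t * g⁻¹) * (g * v * g⁻¹) by group, hgt', e,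
        ← mul_assoc, hexp t ht, one_mul]
  obtain ⟨k, m, hm, hgm⟩ := Nat.exists_eq_two_pow_mul_odd (orderOf_pos g).ne'
  have hpow : g ^ m ∈ (V : Subgroup Y) := by
    have hp : IsPGroup 2 ↥(zpowers (g ^ m)) := by
      rw [IsPGroup.iff_orderOf]
      rintro ⟨x, hx⟩
      have h1 : (g ^ m) ^ (2 ^ k) = 1 := by rw [← pow_mul, mul_comm, ← hgm, pow_orderOf_eq_one]
      have h2 : orderOf (⟨x, hx⟩ : ↥(zpowers (g ^ m))) ∣ 2 ^ k := by
        obtain ⟨i, rfl⟩ := mem_zpowers_iff.1 hx
        rw [orderOf_dvd_iff_pow_eq_one]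
        refine Subtype.ext ?_
        show ((g ^ m) ^ i) ^ (2 ^ k) = 1
        rw [← zpow_natCast, ← _root_.zpow_mul, mul_comm, _root_.zpow_mul, zpow_natCast, h1, one_zpow]
      obtain ⟨j, -, hj⟩ := (Nat.dvd_prime_pow Nat.prime_two).1 h2
      exact ⟨j, hj⟩
    have hsup := V.2.to_sup_of_normal_left' hp (zpowers_le.2 (pow_mem hg m))
    exact V.3 hsup le_sup_left ▸ mem_sup_right (mem_zpowers (g ^ m))
  obtain ⟨j, rfl⟩ := hm
  have hgm' : g ^ (2 * j + 1) ∈ centralizer ((V : Subgroup Y) : Set Y) :=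
    mem_centralizer_iff.2 fun v hv => hcomm v hv _ hpow
  rw [pow_succ, pow_mul, pow_two] at hgm'
  have := mul_mem (inv_mem (pow_mem hsq j)) hgm'
  rwa [inv_mul_cancel_left] at this

/-- The shape of a core-free group with a four group Sylow subgroup and one class of involutions. -/
theorem klein_bar (V : Sylow 2 Y) (h4 : Nat.card ↥(V : Subgroup Y) = 4)
    (hexp : ∀ x ∈ (V : Subgroup Y), x * x = 1)
    (hone : ∀ a b : Y, orderOf a = 2 → orderOf b = 2 → IsConj a b) (hO : Cfsg.oddCore Y = ⊥)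
    {t : Y} (htV : t ∈ (V : Subgroup Y)) (t1 : t ≠ 1) :
    ∃ (m : ℕ) (ε : ℤ), 1 ≤ m ∧ (ε = 1 ∨ ε = -1) ∧
      Nat.card ↥(centralizer ({t} : Set Y)) =
        m * Nat.card ↥(centralizer ((V : Subgroup Y) : Set Y)) ∧
      2 * ((centralizer ({t} : Set Y)).index : ℤ) = (4 * m + ε) * (4 * m + 2 * ε) := by
  classical
  haveI : Fact (Nat.Prime 2) := ⟨Nat.prime_two⟩
  have hord : ∀ x ∈ (V : Subgroup Y), x ≠ 1 → orderOf x = 2 := fun x hx x1 =>
    orderOf_eq_prime (by rw [pow_two]; exact hexp x hx) x1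
  have ht2 := hord t htV t1
  haveI : Nontrivial ↥(V : Subgroup Y) := Finite.one_lt_card_iff_nontrivial.1 (by rw [h4]; norm_num)
  haveI hK : IsKleinFour ↥(V : Subgroup Y) :=
    { card_four := h4
      exponent_two := (Monoid.exponent_eq_prime_iff Nat.prime_two).2 fun x hx => by
        rw [← Subgroup.orderOf_coe]
        exact hord x x.2 fun e => hx (Subtype.ext e) }
  haveI : IsKleinFour (DihedralGroup 2) := H63.GW.isKleinFour_dihedral_two
  have hD : H63.GW.SylowDType Y :=
    H63.GW.sylowDType_of_dihedral V le_rfl IsKleinFour.nonempty_mulEquiv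
  have hP : H63.GW.PerfectHyp Y :=
    H68.GenDihedral.perfectHyp (fun X _ _ _ S n hn hS => S0483.result S n hn hS) hD
  obtain ⟨s, hs, s1, hst⟩ : ∃ s ∈ (V : Subgroup Y), s ≠ 1 ∧ s ≠ t := by
    by_contra hcon
    push Not at hcon
    have hsub : ((V : Subgroup Y) : Set Y) ⊆ {1, t} := fun x hx => by
      by_cases x1 : x = 1
      · exact Or.inl x1
      · exact Or.inr (hcon x hx x1)
    have := (Set.ncard_le_ncard hsub (Set.toFinite _)).trans (Set.ncard_insert_le _ _)
    rw [← Nat.card_coe_set_eq, Set.ncard_singleton] at this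
    have h' : Nat.card ↥(((V : Subgroup Y) : Set Y)) = 4 := h4
    omega
  have hcomm : ∀ a ∈ (V : Subgroup Y), ∀ b ∈ (V : Subgroup Y), a * b = b * a := fun a ha b hb => by
    rw [← inv_eq_of_mul_eq_one_right (hexp _ (mul_mem ha hb)), mul_inv_rev,
      inv_eq_of_mul_eq_one_right (hexp a ha), inv_eq_of_mul_eq_one_right (hexp b hb)]
  have h8 : ¬ 8 ∣ Nat.card Y := fun h => by
    obtain ⟨c, hc⟩ := h
    have := (V : Subgroup Y).card_mul_index
    rw [h4, hc] at this
    exact V.not_dvd_index ⟨c, by omega⟩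
  have hmv : ∃ g : Y, ¬ Commute g t := by
    obtain ⟨g, hg⟩ := isConj_iff.1 (hone t s ht2 (hord s hs s1))
    exact ⟨g, fun h => hst (by rw [← hg, h.eq, mul_inv_cancel_right])⟩
  have hVC : (V : Subgroup Y) ≤ centralizer ((V : Subgroup Y) : Set Y) :=
    fun x hx => mem_centralizer_iff.2 fun v hv => hcomm v hv x hx
  have hCle : centralizer ((V : Subgroup Y) : Set Y) ≤ centralizer ({t} : Set Y) :=
    centralizer_le (Set.singleton_subset_iff.2 htV)
  rcases H63.GW.shape_cases hD hO hP with hp | ⟨⟨e⟩⟩ | ⟨⟨e⟩⟩ | ⟨L, hLn, hsh, -⟩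
  · exfalso
    obtain ⟨g, hg⟩ := hmv
    have hgV : g ∈ (V : Subgroup Y) := by
      rw [← V.3 (hp.to_subgroup ⊤) le_top]
      exact mem_top g
    exact hg (hcomm g hgV t htV)
  · have h12 : Nat.card Y = 12 := by
      rw [Nat.card_congr e.toEquiv, nat_card_alternatingGroup, Nat.card_fin]; rfl
    have hd := (centralizer ({t} : Set Y)).card_subgroup_dvd_card
    have hd4 : 4 ∣ Nat.card ↥(centralizer ({t} : Set Y)) := h4 ▸ card_dvd_of_le (hVC.trans hCle)
    have hne : Nat.card ↥(centralizer ({t} : Set Y)) ≠ 12 := fun h => by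
      obtain ⟨g, hg⟩ := hmv
      have htop := (centralizer ({t} : Set Y)).eq_top_of_card_eq (h.trans h12.symm)
      exact hg (mem_centralizer_singleton_iff.1 (htop.symm ▸ mem_top g))
    rw [h12] at hd
    have hC4 : Nat.card ↥(centralizer ({t} : Set Y)) = 4 := by
      have := Nat.le_of_dvd (by norm_num) hd
      have hpos := Nat.card_pos (α := ↥(centralizer ({t} : Set Y)))
      obtain ⟨c, hc⟩ := hd4
      rw [hc] at hd hne hpos this ⊢
      have : c ≤ 3 := by omega
      interval_cases c <;> omega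
    have hCV : Nat.card ↥(centralizer ((V : Subgroup Y) : Set Y)) = 4 := by
      refine le_antisymm ?_ ?_
      · rw [← hC4]; exact card_le_of_le hCle
      · rw [← h4]; exact card_le_of_le hVC
    have hidx : (centralizer ({t} : Set Y)).index = 3 := by
      have := (centralizer ({t} : Set Y)).card_mul_index
      rw [hC4, h12] at this
      omega
    exact ⟨1, -1, le_rfl, Or.inr rfl, by rw [hC4, hCV], by rw [hidx]; norm_num⟩
  · exfalso
    refine h8 ⟨3, ?_⟩
    rw [Nat.card_congr e.toEquiv, Nat.card_perm, Nat.card_fin]; rfl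
  rcases hsh with ⟨F, i1, i2, hodd, h3F, ⟨e⟩⟩ | ⟨⟨e⟩⟩
  swap
  · exfalso
    refine h8 (dvd_trans ?_ L.card_subgroup_dvd_card)
    rw [Nat.card_congr e.toEquiv, nat_card_alternatingGroup, Nat.card_fin]
    decide
  haveI := hLn
  have h8L : ¬ 8 ∣ Nat.card (Matrix.ProjectiveSpecialLinearGroup (Fin 2) F) := fun h =>
    h8 (dvd_trans (Nat.card_congr e.toEquiv ▸ h) L.card_subgroup_dvd_card)
  have h4L : 4 ∣ Nat.card ↥L := by rw [Nat.card_congr e.toEquiv]; exact four_dvd_psl hodd
  obtain ⟨z, hz⟩ := exists_prime_orderOf_dvd_card' (G := ↥L) 2 (dvd_trans (by norm_num) h4L)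
  have hinvL : ∀ a : Y, orderOf a = 2 → a ∈ L := fun a ha => by
    obtain ⟨c, hc⟩ := isConj_iff.1 (hone (z : Y) a (by rw [Subgroup.orderOf_coe, hz]) ha)
    exact hc ▸ hLn.conj_mem _ z.2 c
  have hVL : (V : Subgroup Y) ≤ L := fun x hx => by
    by_cases x1 : x = 1
    · exact x1 ▸ L.one_mem
    · exact hinvL x (hord x hx x1)
  have htL := hVL htV
  have hte1 : e ⟨t, htL⟩ ≠ 1 := fun h => t1 (congrArg Subtype.val (e.map_eq_one_iff.1 h))
  have hte2 : e ⟨t, htL⟩ * e ⟨t, htL⟩ = 1 := by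
    rw [← map_mul, show (⟨t, htL⟩ : ↥L) * ⟨t, htL⟩ = 1 from Subtype.ext (hexp t htV), map_one]
  obtain ⟨m, ε, hm, hε, hCm, hLm⟩ := psl_orders hodd h8L hte1 hte2
  have hpm := hCm
  set K := L ⊓ centralizer ({t} : Set Y) with hKdef
  have hKcard : Nat.card ↥K = 4 * m := by
    rw [← hCm]
    refine Nat.card_congr
      { toFun := fun x => ⟨e ⟨x.1, x.2.1⟩, mem_centralizer_singleton_iff.2 ?_⟩
        invFun := fun y => ⟨(e.symm y.1 : Y), (e.symm y.1).2, mem_centralizer_singleton_iff.2 ?_⟩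
        left_inv := fun x => Subtype.ext (by simp)
        right_inv := fun y => Subtype.ext (by simp) }
    · rw [← map_mul, ← map_mul]
      exact congrArg e (Subtype.ext (mem_centralizer_singleton_iff.1 x.2.2))
    · exact congrArg (fun w : ↥L => (w : Y)) (e.injective (a₁ := e.symm y.1 * ⟨t, htL⟩)
        (a₂ := ⟨t, htL⟩ * e.symm y.1) (by simpa using mem_centralizer_singleton_iff.1 y.2))
  have hLcard : 2 * (Nat.card ↥L : ℤ) = 4 * m * ((4 * m + ε) * (4 * m + 2 * ε)) := by
    rw [Nat.card_congr e.toEquiv]; exact hLm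
  have hsL := hVL hs
  -- the four group is self-centralising in `L`
  have hCLV : ∀ x ∈ L, x ∈ centralizer ((V : Subgroup Y) : Set Y) → x ∈ (V : Subgroup Y) := by
    intro x hx hxV
    have hsu : ∀ h1 : e ⟨s, hsL⟩ = 1, False := fun h1 => s1 (congrArg Subtype.val (e.map_eq_one_iff.1 h1))
    have h := H88.Walter.PSL.centralizer_four (v := e ⟨t, htL⟩) (u := e ⟨s, hsL⟩) hodd hte1 hte2
      ((show Commute (⟨s, hsL⟩ : ↥L) ⟨t, htL⟩ from Subtype.ext (hcomm s hs t htV)).map e.toMonoidHom)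
      (by rw [← map_mul, show (⟨s, hsL⟩ : ↥L) * ⟨s, hsL⟩ = 1 from Subtype.ext (hexp s hs), map_one])
      hsu (fun h => hst (congrArg Subtype.val (e.injective h)))
      (show e ⟨x, hx⟩ ∈ _ from mem_centralizer_iff.2 (by
        rintro y (rfl | rfl) <;>
        · rw [← map_mul, ← map_mul]
          exact congrArg e (Subtype.ext (mem_centralizer_iff.1 hxV _ (by assumption))))) 
    have hle : closure ({e ⟨t, htL⟩, e ⟨s, hsL⟩} : Set (Matrix.ProjectiveSpecialLinearGroup (Fin 2) F)) ≤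
        ((V : Subgroup Y).subgroupOf L).map e.toMonoidHom := (closure_le _).2 (by
      rintro y (rfl | rfl)
      exacts [⟨⟨t, htL⟩, htV, rfl⟩, ⟨⟨s, hsL⟩, hs, rfl⟩])
    obtain ⟨w, hw, hwe⟩ := hle h
    rw [show w = ⟨x, hx⟩ from e.injective hwe] at hw
    exact hw
  -- a fused four group
  let T : Sylow 2 ↥L := V.subtype hVL
  have hTeq : (T : Subgroup ↥L) = (V : Subgroup Y).subgroupOf L := Sylow.coe_subtype ..
  have hTcard : Nat.card ↥(T : Subgroup ↥L) = 4 := by
    rw [hTeq, Nat.card_congr (subgroupOfEquivOfLe hVL).toEquiv, h4]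
  have hmne : Nat.card ↥L ≠ 4 := by
    intro h
    rw [h] at hLcard
    have hm' : (1 : ℤ) ≤ m := by exact_mod_cast hm
    push_cast at hLcard
    have h1 : (6 : ℤ) ≤ (4 * (m : ℤ) + ε) * (4 * m + 2 * ε) := by
      rcases hε with rfl | rfl <;> nlinarith
    nlinarith [mul_le_mul hm' h1 (by norm_num) (by positivity)]
  obtain ⟨g, hgN, hgC⟩ : ∃ g : Y, g ∈ L ∧ g ∈ normalizer ((V : Subgroup Y) : Set Y) ∧
      g ∉ centralizer ((V : Subgroup Y) : Set Y) := by
    by_contra hcon
    push Not at hcon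
    have hle : normalizer ((T : Subgroup ↥L) : Set ↥L) ≤ centralizer ((T : Subgroup ↥L) : Set ↥L) := by
      intro a ha
      have haN : (a : Y) ∈ normalizer ((V : Subgroup Y) : Set Y) := by
        rw [mem_normalizer_iff]
        intro x
        by_cases hx : x ∈ L
        · have := mem_normalizer_iff.1 ha ⟨x, hx⟩
          rw [hTeq] at this
          exact this
        · refine ⟨fun h => absurd (hVL h) hx, fun h => absurd ?_ hx⟩
          simpa [mul_assoc] using hLn.conj_mem _ (hVL h) (a : Y)⁻¹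
      have haC := hcon a a.2 haN
      refine mem_centralizer_iff.2 fun x hx => Subtype.ext ?_
      rw [hTeq] at hx
      exact mem_centralizer_iff.1 haC x hx
    have hc := MonoidHom.ker_transferSylow_isComplement' T hle
    have hcard := hc.card_mul
    rw [hTcard] at hcard
    haveI := (H63.GW.SimpleShape.isSimpleGroup (Or.inl ⟨F, i1, i2, hodd,
      h3F, ⟨e⟩⟩) : IsSimpleGroup ↥L)
    rcases (MonoidHom.normal_ker (MonoidHom.transferSylow T hle)).eq_bot_or_eq_top with hb | hb
    · rw [hb, card_bot, one_mul] at hcard; exact hmne hcard.symm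
    · rw [hb, card_top] at hcard
      have := Nat.card_pos (α := ↥L)
      omega
  obtain ⟨hgV, hgne⟩ := hgC
  -- it fixes no involution of the four group
  have hgfix : ∀ a ∈ (V : Subgroup Y), a ≠ 1 → g * a * g⁻¹ ≠ a := fun a ha a1 h =>
    hgne (cent_of_normalizer_fix V h4 hexp ha a1 hgV (mul_inv_eq_iff_eq_mul.1 h))
  have hfuse : ∀ x ∈ (V : Subgroup Y), x ≠ 1 → ∃ l ∈ L, l * t * l⁻¹ = x := by
    intro x hx x1
    set b := g * t * g⁻¹ with hb
    have hbV : b ∈ (V : Subgroup Y) := (mem_normalizer_iff.1 hgV t).1 htV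
    have b1 : b ≠ 1 := fun h => t1 (conj_eq_one_iff.1 h)
    have hbt : b ≠ t := hgfix t htV t1
    rcases four_mem h4 hexp htV hbV t1 b1 hbt hx with e1 | e1 | e1 | e1
    · exact absurd e1 x1
    · exact ⟨1, L.one_mem, by rw [e1]; group⟩
    · exact ⟨g, hgN, e1.symm⟩
    · refine ⟨g * g, mul_mem hgN hgN, ?_⟩
      have hgb : g * b * g⁻¹ ∈ (V : Subgroup Y) := (mem_normalizer_iff.1 hgV b).1 hbV
      have he : g * g * t * (g * g)⁻¹ = g * b * g⁻¹ := by rw [hb]; group
      rcases four_mem h4 hexp htV hbV t1 b1 hbt hgb with e2 | e2 | e2 | e2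
      · exact absurd (conj_eq_one_iff.1 e2) b1
      · exfalso
        refine hgfix (t * b) (mul_mem htV hbV) (fun h => hbt ?_) ?_
        · rw [← inv_eq_of_mul_eq_one_right h, inv_eq_of_mul_eq_one_right (hexp t htV)]
        · rw [show g * (t * b) * g⁻¹ = (g * t * g⁻¹) * (g * b * g⁻¹) by group, ← hb, e2,
            hcomm b hbV t htV]
      · exact absurd e2 (hgfix b hbV b1)
      · rw [he, e2, e1]
  have hconjL : ∀ a : Y, orderOf a = 2 → ∃ l ∈ L, l * t * l⁻¹ = a := by
    intro a ha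
    have haL := hinvL a ha
    have hz2 : IsPGroup 2 ↥(zpowers (⟨a, haL⟩ : ↥L)) := IsPGroup.of_card (n := 1) (by
      rw [Nat.card_zpowers, ← Subgroup.orderOf_coe, ha, pow_one])
    obtain ⟨R, hR⟩ := hz2.exists_le_sylow
    obtain ⟨l, hl⟩ := MulAction.exists_smul_eq ↥L T R
    have haR : (⟨a, haL⟩ : ↥L) ∈ (R : Subgroup ↥L) := hR (mem_zpowers _)
    rw [← hl] at haR
    have hmem : l⁻¹ * (⟨a, haL⟩ : ↥L) * l ∈ (T : Subgroup ↥L) := by
      rw [Sylow.smul_def, Sylow.pointwise_smul_def, Subgroup.mem_pointwise_smul_iff_inv_smul_mem] at haR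
      simpa [MulAut.smul_def, mul_assoc] using haR
    rw [hTeq, mem_subgroupOf] at hmem
    simp only [Subgroup.coe_mul, Subgroup.coe_inv] at hmem
    obtain ⟨k, hk, hkt⟩ := hfuse _ hmem (fun h => by
      have : a = 1 := by
        rw [show a = (l : Y) * ((l : Y)⁻¹ * a * l) * (l : Y)⁻¹ by group, h]; group
      rw [this, orderOf_one] at ha
      omega)
    exact ⟨(l : Y) * k, mul_mem l.2 hk, by rw [mul_inv_rev, show (l : Y) * k * t * (k⁻¹ * (l : Y)⁻¹) =
      l * (k * t * k⁻¹) * (l : Y)⁻¹ by group, hkt]; group⟩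
  -- the factorisation of the centraliser
  have hfac : ∀ c ∈ centralizer ({t} : Set Y), ∃ k ∈ K, k⁻¹ * c ∈ centralizer ((V : Subgroup Y) : Set Y) := by
    intro c hc
    have hVK : (V : Subgroup Y) ≤ K := le_inf hVL (hVC.trans hCle)
    let S : Sylow 2 ↥K := V.subtype hVK
    have hSeq : ∀ y : ↥K, y ∈ (S : Subgroup ↥K) ↔ (y : Y) ∈ (V : Subgroup Y) := fun y => by
      rw [Sylow.coe_subtype, mem_subgroupOf]
    have hct : c * t * c⁻¹ = t := by rw [mem_centralizer_singleton_iff.1 hc, mul_inv_cancel_right]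
    have hcv : ∀ v ∈ (V : Subgroup Y), c * v * c⁻¹ ∈ K := fun v hv => ⟨hLn.conj_mem _ (hVL hv) c,
      mem_centralizer_singleton_iff.2 (by
        calc c * v * c⁻¹ * t = c * v * c⁻¹ * (c * t * c⁻¹) := by rw [hct]
          _ = c * (v * t) * c⁻¹ := by group
          _ = c * (t * v) * c⁻¹ := by rw [hcomm v hv t htV]
          _ = (c * t * c⁻¹) * (c * v * c⁻¹) := by group
          _ = t * (c * v * c⁻¹) := by rw [hct])⟩
    let f : ↥(V : Subgroup Y) →* ↥K :=
      { toFun := fun v => ⟨c * v * c⁻¹, hcv v v.2⟩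
        map_one' := Subtype.ext (by simp)
        map_mul' := fun v w => Subtype.ext (by simp [mul_assoc]) }
    have hf : IsPGroup 2 ↥f.range := V.2.of_surjective f.rangeRestrict f.rangeRestrict_surjective
    obtain ⟨R, hR⟩ := hf.exists_le_sylow
    obtain ⟨k, hk⟩ := MulAction.exists_smul_eq ↥K S R
    refine ⟨k, k.2, cent_of_normalizer_fix V h4 hexp htV t1 ?_ ?_⟩
    · have key : ∀ v ∈ (V : Subgroup Y), (k : Y)⁻¹ * c * v * ((k : Y)⁻¹ * c)⁻¹ ∈ (V : Subgroup Y) := by
        intro v hv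
        have hm' : f ⟨v, hv⟩ ∈ (R : Subgroup ↥K) := hR ⟨_, rfl⟩
        rw [← hk, Sylow.smul_def, Sylow.pointwise_smul_def,
          Subgroup.mem_pointwise_smul_iff_inv_smul_mem] at hm'
        simpa [MulAut.smul_def, hSeq, f, mul_assoc] using hm'
      refine mem_normalizer_iff.2 fun v => ⟨key v, fun hv => ?_⟩
      have hbij : Function.Surjective fun w : ↥(V : Subgroup Y) =>
          (⟨_, key w w.2⟩ : ↥(V : Subgroup Y)) := by
        refine (Finite.injective_iff_surjective).1 fun a b hab => Subtype.ext ?_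
        exact mul_left_cancel (mul_right_cancel (congrArg Subtype.val hab))
      obtain ⟨w, hw⟩ := hbij ⟨_, hv⟩
      have := mul_left_cancel (mul_right_cancel (congrArg Subtype.val hw))
      exact this ▸ w.2
    · have h1 : (k : Y) * t = t * k := mem_centralizer_singleton_iff.1 k.2.2
      exact (show Commute (k : Y) t from h1).inv_left.mul_left
        (show Commute c t from mem_centralizer_singleton_iff.1 hc)
  have hVK : (V : Subgroup Y) ≤ K := le_inf hVL (hVC.trans hCle)
  have hCt : Nat.card ↥(centralizer ({t} : Set Y)) =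
      m * Nat.card ↥(centralizer ((V : Subgroup Y) : Set Y)) := by
    have h1 : ((V : Subgroup Y).subgroupOf K).index =
        ((centralizer ((V : Subgroup Y) : Set Y)).subgroupOf (centralizer ({t} : Set Y))).index := by
      refine Nat.card_congr (Equiv.ofBijective (Quotient.map'
        (fun k : ↥K => (⟨k.1, k.2.2⟩ : ↥(centralizer ({t} : Set Y)))) fun a b hab => ?_) ⟨?_, ?_⟩)
      · rw [QuotientGroup.leftRel_apply, mem_subgroupOf] at hab ⊢
        exact hVC hab
      · rintro ⟨a⟩ ⟨b⟩ hab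
        refine Quotient.sound' ?_
        have h2 := Quotient.exact' hab
        rw [QuotientGroup.leftRel_apply, mem_subgroupOf] at h2 ⊢
        exact hCLV _ (mul_mem (inv_mem a.2.1) b.2.1) h2
      · rintro ⟨⟨c, hc⟩⟩
        obtain ⟨k, hk, hkc⟩ := hfac c hc
        refine ⟨Quotient.mk'' ⟨k, hk⟩, Quotient.sound' ?_⟩
        rw [QuotientGroup.leftRel_apply, mem_subgroupOf]
        exact hkc
    have h2 : ((V : Subgroup Y).subgroupOf K).index = m := by
      have := ((V : Subgroup Y).subgroupOf K).card_mul_index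
      rw [Nat.card_congr (subgroupOfEquivOfLe hVK).toEquiv, h4, hKcard] at this
      omega
    have h3 := ((centralizer ((V : Subgroup Y) : Set Y)).subgroupOf (centralizer ({t} : Set Y))).card_mul_index
    rw [Nat.card_congr (subgroupOfEquivOfLe hCle).toEquiv, ← h1, h2] at h3
    rw [← h3, mul_comm]
  -- the number of involutions
  have hclass : {u : Y | IsConj t u}.ncard = {u : ↥L | IsConj (⟨t, htL⟩ : ↥L) u}.ncard := by
    rw [← Set.ncard_image_of_injective {u : ↥L | IsConj (⟨t, htL⟩ : ↥L) u} L.subtype_injective]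
    congr 1
    ext u
    constructor
    · intro hu
      obtain ⟨l, hl, hlu⟩ := hconjL u (by
        obtain ⟨c, hc⟩ := isConj_iff.1 hu
        rw [← hc, ← ht2]
        exact (MulAut.conj c).orderOf_eq t)
      exact ⟨⟨l, hl⟩ * ⟨t, htL⟩ * (⟨l, hl⟩ : ↥L)⁻¹, isConj_iff.2 ⟨⟨l, hl⟩, rfl⟩, hlu⟩
    · rintro ⟨w, hw, rfl⟩
      obtain ⟨c, hc⟩ := isConj_iff.1 hw
      exact isConj_iff.2 ⟨c, by rw [← hc]; rfl⟩
  have hn1 := H70.SameFix.card_conjugates t
  have hn2 := H70.SameFix.card_conjugates (⟨t, htL⟩ : ↥L)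
  have hCL : Nat.card ↥(centralizer ({(⟨t, htL⟩ : ↥L)} : Set ↥L)) = 4 * m := by
    rw [← hKcard]
    refine Nat.card_congr
      { toFun := fun x => ⟨x.1.1, x.1.2, mem_centralizer_singleton_iff.2
          (congrArg Subtype.val (mem_centralizer_singleton_iff.1 x.2))⟩
        invFun := fun x => ⟨⟨x.1, x.2.1⟩, mem_centralizer_singleton_iff.2
          (Subtype.ext (mem_centralizer_singleton_iff.1 x.2.2))⟩
        left_inv := fun x => rfl
        right_inv := fun x => rfl }
  rw [hCL] at hn2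
  refine ⟨m, ε, hm, hε, hCt, ?_⟩
  have hidx : (centralizer ({t} : Set Y)).index = {u : Y | IsConj t u}.ncard := by
    have := (centralizer ({t} : Set Y)).index_mul_card
    rw [← hn1] at this
    exact Nat.eq_of_mul_eq_mul_right Nat.card_pos this
  rw [hidx, hclass]
  have hn2' : ({u : ↥L | IsConj (⟨t, htL⟩ : ↥L) u}.ncard : ℤ) * (4 * m) = (Nat.card ↥L : ℤ) := by
    exact_mod_cast hn2
  refine mul_left_cancel₀ (show (4 * (m : ℤ)) ≠ 0 by positivity) ?_
  rw [← hLcard, ← hn2']
  ring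

end Cfsg.Agent.H6.AFour.CaseC
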