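import Cfsg.Agent.H70.SameFix.Basic

/-!
# An affine plane with one fixed-point-free exchanging involution for each pair of points
-/

set_option autoImplicit false
set_option linter.unusedSectionVars false

namespace Cfsg.Agent.H6.AFour.CaseC

open MulAction
open Cfsg.Agent.H70

/-- The hypotheses: an affine plane of order `e` on which `G` acts, and a class of fixed-point-free
involutions exchanging each pair exactly once. -/
structure PlaneSys (G : Type*) {Ω : Type*} [Group G] [MulAction G Ω] (line : Ω → Ω → Set Ω) (e : ℕ)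
    (U : Set G) : Prop where
  left : ∀ x y, x ∈ line x y
  right : ∀ x y, y ∈ line x y
  eq : ∀ {x y z w}, x ≠ y → z ≠ w → z ∈ line x y → w ∈ line x y → line z w = line x y
  ncard : ∀ {x y}, x ≠ y → (line x y).ncard = e
  card : Nat.card Ω = e * e
  two : 2 ≤ e
  map : ∀ {x y}, x ≠ y → ∀ (g : G) (z : Ω), g • z ∈ line (g • x) (g • y) ↔ z ∈ line x y
  sq : ∀ s ∈ U, s * s = 1
  fpf : ∀ s ∈ U, ∀ z : Ω, s • z ≠ z
  mem : ∀ s : G, s * s = 1 → (∀ z : Ω, s • z ≠ z) → s ∈ U
  uniq : ∀ x y : Ω, x ≠ y → ∃! s : G, s ∈ U ∧ s • x = y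

/-- Equal or disjoint. -/
def ParSet {Ω : Type*} (L M : Set Ω) : Prop := L = M ∨ Disjoint L M

variable {G Ω : Type*} [Group G] [MulAction G Ω] {line : Ω → Ω → Set Ω} {e : ℕ} {U : Set G}
  [Finite Ω]

theorem ParSet.eq_of_mem {Ω : Type*} {L M : Set Ω} (h : ParSet L M) {z : Ω} (h1 : z ∈ L)
    (h2 : z ∈ M) : L = M :=
  h.resolve_right fun hd => Set.disjoint_left.1 hd h1 h2

namespace PlaneSys

variable (P : PlaneSys G line e U)
include P

theorem symm {x y : Ω} (hxy : x ≠ y) : line y x = line x y :=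
  P.eq hxy hxy.symm (P.right x y) (P.left x y)

theorem par_unique {a b p q r : Ω} (hab : a ≠ b) (hpq : p ≠ q) (hpr : p ≠ r)
    (h1 : ParSet (line a b) (line p q)) (h2 : ParSet (line a b) (line p r)) :
    line p q = line p r := by
  classical
  have := Fintype.ofFinite Ω
  by_cases hp : p ∈ line a b
  · rw [← h1.eq_of_mem hp (P.left p q), ← h2.eq_of_mem hp (P.left p r)]
  have d1 : Disjoint (line a b) (line p q) := h1.resolve_left fun e' => hp (e' ▸ P.left p q)
  have d2 : Disjoint (line a b) (line p r) := h2.resolve_left fun e' => hp (e' ▸ P.left p r)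
  by_contra hne
  set S := (Finset.univ : Finset Ω).erase p with hS
  set A := S.image (fun z => line p z) with hA
  have hfib : ∀ L ∈ A, (S.filter fun z => line p z = L).card = e - 1 := by
    intro L hL
    obtain ⟨z, hz, rfl⟩ := Finset.mem_image.1 hL
    rw [hS, Finset.mem_erase] at hz
    have hzp : p ≠ z := fun h => hz.1 h.symm
    have hset : (((Finset.univ : Finset Ω).erase p).filter fun w => line p w = line p z) =
        ((line p z).toFinset.erase p) := by
      ext w
      simp only [Finset.mem_filter, Finset.mem_erase, Finset.mem_univ, and_true, Set.mem_toFinset]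
      exact ⟨fun h => ⟨h.1, h.2 ▸ P.right p w⟩, fun h => ⟨h.1, P.eq hzp (Ne.symm h.1) (P.left p z) h.2⟩⟩
    rw [hS, hset, Finset.card_erase_of_mem (Set.mem_toFinset.2 (P.left p z)), Set.toFinset_card,
      ← Nat.card_eq_fintype_card, Nat.card_coe_set_eq, P.ncard hzp]
  have hcard : S.card = A.card * (e - 1) := by
    rw [Finset.card_eq_sum_card_image (fun z => line p z) S, Finset.sum_congr rfl hfib, Finset.sum_const,
      smul_eq_mul]
  rw [hS, Finset.card_erase_of_mem (Finset.mem_univ p), Finset.card_univ, ← Nat.card_eq_fintype_card,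
    P.card] at hcard
  have he2 := P.two
  have hA2 : A.card = e + 1 := by
    obtain ⟨i, rfl⟩ : ∃ i, e = i + 1 := ⟨e - 1, by omega⟩
    rw [Nat.add_sub_cancel, show (i + 1) * (i + 1) - 1 = (i + 1 + 1) * i by
      exact Nat.sub_eq_of_eq_add (by ring)] at hcard
    exact (Nat.eq_of_mul_eq_mul_right (by omega) hcard).symm
  have hqA : line p q ∈ A := Finset.mem_image.2 ⟨q, by simp [hS, hpq.symm], rfl⟩
  have hrA : line p r ∈ A := Finset.mem_image.2 ⟨r, by simp [hS, hpr.symm], rfl⟩
  have hle : (line a b).toFinset.card ≤ ((A.erase (line p q)).erase (line p r)).card := by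
    refine Finset.card_le_card_of_injOn (fun z => line p z) ?_ ?_
    · intro z hz
      simp only [Finset.mem_coe, Set.mem_toFinset] at hz
      have hzp : z ≠ p := fun e' => hp (e' ▸ hz)
      simp only [Finset.mem_coe, Finset.mem_erase]
      exact ⟨fun e' => Set.disjoint_left.1 d2 hz (e' ▸ P.right p z),
        fun e' => Set.disjoint_left.1 d1 hz (e' ▸ P.right p z),
        Finset.mem_image.2 ⟨z, by simp [hS, hzp], rfl⟩⟩
    · intro z hz w hw heq
      simp only [Finset.mem_coe, Set.mem_toFinset] at hz hw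
      by_contra hzw
      have hzp : p ≠ z := fun e' => hp (e' ▸ hz)
      have h3 : line z w = line p z :=
        P.eq hzp hzw (P.right p z) (show w ∈ line p z from (show line p z = line p w from heq) ▸ P.right p w)
      rw [P.eq hab hzw hz hw] at h3
      exact hp (h3 ▸ P.left p z)
  rw [Finset.card_erase_of_mem (Finset.mem_erase.2 ⟨Ne.symm hne, hrA⟩), Finset.card_erase_of_mem hqA,
    Set.toFinset_card, ← Nat.card_eq_fintype_card, Nat.card_coe_set_eq, P.ncard hab, hA2] at hle
  omega

theorem inv_mem {s : G} (hs : s ∈ U) {x : Ω} {z : Ω} (hz : z ∈ line x (s • x)) :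
    s • z ∈ line x (s • x) := by
  have h := (P.map (P.fpf s hs x).symm s z).2 hz
  rwa [SameFix.smul_smul_self (P.sq s hs), P.symm (P.fpf s hs x).symm] at h

theorem par_image {s : G} (hs : s ∈ U) {a b : Ω} (hab : a ≠ b) :
    ParSet (line a b) (line (s • a) (s • b)) := by
  have hab' : s • a ≠ s • b := fun h => hab (MulAction.injective s h)
  by_cases hd : Disjoint (line a b) (line (s • a) (s • b))
  · exact Or.inr hd
  obtain ⟨z, hz1, hz2⟩ := Set.not_disjoint_iff.1 hd
  have hsz1 : s • z ∈ line (s • a) (s • b) := (P.map hab s z).2 hz1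
  have hsz2 : s • z ∈ line a b := by
    have := (P.map hab' s z).2 hz2
    rwa [SameFix.smul_smul_self (P.sq s hs), SameFix.smul_smul_self (P.sq s hs)] at this
  exact Or.inl ((P.eq hab (P.fpf s hs z).symm hz1 hsz2).symm.trans
    (P.eq hab' (P.fpf s hs z).symm hz2 hsz1))

theorem par_invariant {s : G} (hs : s ∈ U) (x y : Ω) :
    ParSet (line x (s • x)) (line y (s • y)) := by
  by_cases hd : Disjoint (line x (s • x)) (line y (s • y))
  · exact Or.inr hd
  obtain ⟨z, hz1, hz2⟩ := Set.not_disjoint_iff.1 hd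
  exact Or.inl ((P.eq (P.fpf s hs x).symm (P.fpf s hs z).symm hz1 (P.inv_mem hs hz1)).symm.trans
    (P.eq (P.fpf s hs y).symm (P.fpf s hs z).symm hz2 (P.inv_mem hs hz2)))

theorem comm_at {s s' : G} (hs : s ∈ U) (hs' : s' ∈ U) {x : Ω} (hd : s' • x ∉ line x (s • x)) :
    s • s' • x = s' • s • x := by
  have hsx := (P.fpf s hs x).symm
  have hs'x := (P.fpf s' hs' x).symm
  have hw : line (s' • x) (s • s' • x) = line (s' • x) (s' • s • x) :=
    P.par_unique hsx (P.fpf s hs _).symm (fun h => hsx (MulAction.injective s' h))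
      (P.par_invariant hs x (s' • x)) (P.par_image hs' hsx)
  have hv : line (s • x) (s' • s • x) = line (s • x) (s • s' • x) :=
    P.par_unique hs'x (P.fpf s' hs' _).symm (fun h => hs'x (MulAction.injective s h))
      (P.par_invariant hs' x (s • x)) (P.par_image hs hs'x)
  by_contra hcon
  set w := line (s' • x) (s • s' • x)
  set v := line (s • x) (s' • s • x)
  have h1 : s' • s • x ∈ w := hw ▸ P.right _ _
  have h2 : s • s' • x ∈ w := P.right _ _
  have h3 : s' • s • x ∈ v := P.right _ _
  have h4 : s • s' • x ∈ v := hv ▸ P.right _ _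
  have hwv : w = v := (P.eq (P.fpf s hs _).symm hcon h2 h1).symm.trans
    (P.eq (P.fpf s' hs' _).symm hcon h4 h3)
  have htw : line x (s • x) = w :=
    (P.par_invariant hs x (s' • x)).eq_of_mem (P.right _ _) (show s • x ∈ w by rw [hwv]; exact P.left _ _)
  exact hd (htw ▸ P.left _ _)

theorem comm_of_diff [FaithfulSMul G Ω] {s s' : G} (hs : s ∈ U) (hs' : s' ∈ U) {x : Ω}
    (hd : s' • x ∉ line x (s • x)) : Commute s s' := by
  refine eq_of_smul_eq_smul fun z : Ω => ?_
  rw [mul_smul, mul_smul]
  refine P.comm_at hs hs' fun hz => hd ?_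
  have hsz := (P.fpf s hs z).symm
  have hsx := (P.fpf s hs x).symm
  have hs'x := (P.fpf s' hs' x).symm
  have hs'z := (P.fpf s' hs' z).symm
  have heq : line z (s' • z) = line z (s • z) := P.eq hsz hs'z (P.left _ _) hz
  have := P.par_unique hsz hsx hs'x (P.par_invariant hs z x)
    (heq ▸ P.par_invariant hs' z x)
  exact this ▸ P.right _ _

theorem comm [FaithfulSMul G Ω] {s s' : G} (hs : s ∈ U) (hs' : s' ∈ U) : Commute s s' := by
  classical
  have := Fintype.ofFinite Ω
  have hne : Nonempty Ω := by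
    have : 0 < Nat.card Ω := by rw [P.card]; exact Nat.mul_pos (by linarith [P.two]) (by linarith [P.two])
    exact (Nat.card_pos_iff.1 this).1
  obtain ⟨x⟩ := hne
  by_cases hd : s' • x ∈ line x (s • x)
  swap
  · exact P.comm_of_diff hs hs' hd
  have hsx := (P.fpf s hs x).symm
  obtain ⟨z, hz⟩ : ∃ z, z ∉ line x (s • x) := by
    by_contra hcon
    push Not at hcon
    have h1 := P.ncard hsx
    rw [Set.eq_univ_of_forall hcon, Set.ncard_univ, P.card] at h1
    have := P.two
    nlinarith
  have hzx : x ≠ z := fun h => hz (h ▸ P.left _ _)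
  obtain ⟨r, ⟨hr, hrx⟩, -⟩ := P.uniq x z hzx
  have hsr : Commute s r := P.comm_of_diff hs hr (hrx.symm ▸ hz)
  have hline : line x (s' • x) = line x (s • x) := P.eq hsx (P.fpf s' hs' x).symm (P.left _ _) hd
  have hs'r : Commute s' r := P.comm_of_diff hs' hr (x := x) (by rw [hrx, hline]; exact hz)
  have hne' : r ≠ s' := fun h => hz (by rw [← hrx, h]; exact hd)
  have hfpf : ∀ w : Ω, (r * s') • w ≠ w := by
    intro w hw
    rw [mul_smul] at hw
    have he : s' • w = r • w := by
      conv_rhs => rw [← hw, SameFix.smul_smul_self (P.sq r hr)]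
    exact hne' ((P.uniq w (r • w) (P.fpf r hr w).symm).unique ⟨hr, rfl⟩ ⟨hs', he⟩)
  have hq : r * s' ∈ U := by
    refine P.mem _ ?_ hfpf
    rw [hs'r.mul_mul_mul_comm, P.sq r hr, P.sq s' hs', one_mul]
  have hsq : Commute s (r * s') := by
    refine P.comm_of_diff hs hq (x := x) ?_
    rw [mul_smul]
    intro hmem
    have h1 : line (s' • x) (r • s' • x) = line x (s • x) :=
      P.eq hsx (P.fpf r hr _).symm hd hmem
    have h2 : r • x ∈ line (s' • x) (r • s' • x) := P.inv_mem hr (h1.symm ▸ P.left _ _)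
    rw [h1, hrx] at h2
    exact hz h2
  have := hsr.mul_right hsq
  rwa [← mul_assoc, P.sq r hr, one_mul] at this

/-- The translations form a regular normal elementary abelian subgroup. -/
theorem exists_translations [FaithfulSMul G Ω] :
    ∃ E : Subgroup G, E.Normal ∧ Nat.card ↥E = Nat.card Ω ∧ (∀ a ∈ E, a * a = 1) ∧
      (∀ a ∈ E, ∀ b ∈ E, a * b = b * a) ∧ (∀ a ∈ E, ∀ z : Ω, a • z = z → a = 1) ∧
      (∀ x y : Ω, ∃ a ∈ E, a • x = y) := by
  classical
  have := Fintype.ofFinite Ω
  let E : Subgroup G :=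
    { carrier := {a | a = 1 ∨ a ∈ U}
      one_mem' := Or.inl rfl
      mul_mem' := by
        rintro a b (rfl | ha) hb
        · rwa [one_mul]
        rcases hb with rfl | hb
        · exact Or.inr (by rwa [mul_one])
        by_cases hab : a = b
        · exact Or.inl (by rw [← hab, P.sq a ha])
        refine Or.inr (P.mem _ ?_ fun w hw => hab ?_)
        · rw [(P.comm hb ha).mul_mul_mul_comm, P.sq a ha, P.sq b hb, one_mul]
        · rw [mul_smul] at hw
          have he : b • w = a • w := by
            conv_rhs => rw [← hw, SameFix.smul_smul_self (P.sq a ha)]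
          exact (P.uniq w (a • w) (P.fpf a ha w).symm).unique ⟨ha, rfl⟩ ⟨hb, he⟩
      inv_mem' := by
        rintro a (rfl | ha)
        · exact Or.inl inv_one
        · exact Or.inr (by rwa [inv_eq_of_mul_eq_one_right (P.sq a ha)]) }
  have hfree : ∀ a ∈ E, ∀ z : Ω, a • z = z → a = 1 := by
    rintro a (rfl | ha) z hz
    · rfl
    · exact absurd hz (P.fpf a ha z)
  have htr : ∀ x y : Ω, ∃ a ∈ E, a • x = y := fun x y => by
    by_cases hxy : x = y
    · exact ⟨1, E.one_mem, by rw [one_smul, hxy]⟩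
    · obtain ⟨a, ⟨ha, hax⟩, -⟩ := P.uniq x y hxy
      exact ⟨a, Or.inr ha, hax⟩
  refine ⟨E, ⟨fun a ha g => ?_⟩, ?_, ?_, ?_, hfree, htr⟩
  · rcases ha with rfl | ha
    · exact Or.inl (by group)
    · refine Or.inr (P.mem _ ?_ fun w hw => P.fpf a ha (g⁻¹ • w) ?_)
      · rw [show g * a * g⁻¹ * (g * a * g⁻¹) = g * (a * a) * g⁻¹ by group, P.sq a ha]; group
      · rw [mul_smul, mul_smul] at hw
        exact eq_inv_smul_iff.2 hw
  · have hpos : 0 < Nat.card Ω := by
      rw [P.card]; exact Nat.mul_pos (by linarith [P.two]) (by linarith [P.two])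
    obtain ⟨x⟩ := (Nat.card_pos_iff.1 hpos).1
    refine Nat.card_congr (Equiv.ofBijective (fun a : ↥E => (a : G) • x) ⟨fun a b hab => ?_, fun w => ?_⟩)
    · refine Subtype.ext (inv_mul_eq_one.1 (hfree _ (mul_mem (E.inv_mem b.2) a.2) x ?_)).symm
      rw [mul_smul, inv_smul_eq_iff]
      exact hab
    · obtain ⟨a, ha, hax⟩ := htr x w
      exact ⟨⟨a, ha⟩, hax⟩
  · rintro a (rfl | ha)
    · exact one_mul 1
    · exact P.sq a ha
  · rintro a (rfl | ha) b hb
    · simp
    rcases hb with rfl | hb
    · simp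
    exact (P.comm ha hb).eq

end PlaneSys

end Cfsg.Agent.H6.AFour.CaseC
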