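import Cfsg.Agent.H6.AFour.CaseC.Numeric
import Cfsg.Agent.H6.AFour.CaseC.Plane
import Cfsg.Agent.H6.AFour.CaseC.Affine

/-!
# Case C, even degree: the affine group of the plane of order four
-/

set_option autoImplicit false
set_option linter.unusedSectionVars false
set_option linter.style.haveILetI false

namespace Cfsg.Agent.H6.AFour

open MulAction
open scoped Pointwise

universe u v

variable {G : Type u} {Ω : Type v} [Group G] [MulAction G Ω]

namespace Hyp

variable (h : Hyp G Ω) [Finite G] [Finite Ω]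
include h

theorem caseC_plane (hC : CaseC G Ω) (hev : Even (Nat.card Ω)) :
    CaseC.PlaneSys G (line G : Ω → Ω → Set Ω) 4
      {s : G | s * s = 1 ∧ ∀ z : Ω, s • z ≠ z} := by
  have hF := h.caseC_flat hC hev
  obtain ⟨t, ht⟩ := h.exists_isT
  have h4 := h.caseC_fix_four hC hev ht
  refine
    { left := fun a b => left_mem_line a b
      right := fun a b => right_mem_line a b
      eq := fun hxy hzw hz hw => h.line_eq hxy hzw hz hw
      ncard := fun hxy => by rw [h.line_card_of_flat hF hxy ht, h4]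
      card := by rw [h.eq_C hC ht, h4]
      two := by norm_num
      map := fun hxy g z => h.smul_line hxy g
      sq := fun s hs => hs.1
      fpf := fun s hs => hs.2
      mem := fun s h1 h2 => ⟨h1, h2⟩
      uniq := fun a b hab => ?_ }
  obtain ⟨J, hJ, hJT, hoth⟩ := hC a b hab
  refine ⟨J, ⟨⟨hJ.1.1.2, fun z hz => hJT (h.isT_of_fix hev hJ.1.1 hz)⟩, hJ.1.2⟩, ?_⟩
  rintro g ⟨⟨g2, gfix⟩, gab⟩
  by_contra hne
  have gi : Inv g := ⟨fun e => hab (by rw [← gab, e, one_smul]), g2⟩
  obtain ⟨-, p, q, -, hp, -⟩ := hoth g ⟨gi, gab⟩ hne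
  exact gfix p hp

/-- A 2-element of the point stabiliser normalising a four group lies in it. -/
theorem four_max (hn : Nat.card Ω = 16) {x y : Ω} (hxy : x ≠ y) {g : G} (gx : g • x = x) {k : ℕ}
    (gk : g ^ (2 ^ k) = 1) (hg : g ∈ Subgroup.normalizer (h.four hxy : Set G)) :
    g ∈ h.four hxy := by
  haveI : Fact (Nat.Prime 2) := ⟨Nat.prime_two⟩
  have hp : IsPGroup 2 ↥(Subgroup.zpowers g) := by
    obtain ⟨j, -, hj⟩ := (Nat.dvd_prime_pow Nat.prime_two).1 (orderOf_dvd_of_pow_eq_one gk)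
    exact IsPGroup.of_card (n := j) (by rw [Nat.card_zpowers, hj])
  have h4 : IsPGroup 2 ↥(h.four hxy) := IsPGroup.of_card (n := 2) (h.card_four' hxy)
  have hsup := h4.to_sup_of_normal_left' hp (Subgroup.zpowers_le.2 hg)
  obtain ⟨j, hj⟩ := hsup.exists_card_eq
  have hle : h.four hxy ⊔ Subgroup.zpowers g ≤ stabilizer G x :=
    sup_le (fun v hv => (mem_tw.1 hv.1).1) (Subgroup.zpowers_le.2 gx)
  have hd := Subgroup.card_dvd_of_le hle
  rw [h.card_stabilizer x, hn, hj] at hd
  have hj2 : j ≤ 2 := by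
    by_contra hc
    have := (pow_dvd_pow 2 (show 3 ≤ j by omega)).trans hd
    norm_num at this
  have heq : h.four hxy = h.four hxy ⊔ Subgroup.zpowers g :=
    Subgroup.eq_of_le_of_card_ge le_sup_left (by
      rw [hj, h.card_four' hxy]
      exact (Nat.pow_le_pow_right two_pos hj2).trans (by norm_num))
  rw [heq]
  exact Subgroup.mem_sup_right (Subgroup.mem_zpowers g)

/-- The central element of order three of the point stabiliser. -/
theorem exists_homothety (hC : CaseC G Ω) (hev : Even (Nat.card Ω)) (x : Ω) :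
    ∃ z : G, z * z * z = 1 ∧ z • x = x ∧ (∀ w : Ω, z • w = w → w = x) ∧
      ∀ g : G, g • x = x → g * z = z * g := by
  classical
  haveI : Fact (Nat.Prime 3) := ⟨Nat.prime_three⟩
  have := Fintype.ofFinite Ω
  have hF := h.caseC_flat hC hev
  have P := h.caseC_plane hC hev
  have hn : Nat.card Ω = 16 := by rw [P.card]
  have h15 : Nat.card {y : Ω // y ≠ x} = 15 := by
    rw [Nat.card_eq_fintype_card, Fintype.card_subtype_compl, Fintype.card_subtype_eq,
      ← Nat.card_eq_fintype_card, hn]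
  let Lx := {L : Set Ω // ∃ y : Ω, y ≠ x ∧ L = line G x y}
  let toL : {y : Ω // y ≠ x} → Lx := fun y => ⟨line G x y.1, y.1, y.2, rfl⟩
  have hLx : Nat.card Lx = 5 := by
    have hfib : ∀ L : Lx, Nat.card {y : {y : Ω // y ≠ x} // toL y = L} = 3 := by
      rintro ⟨L, y0, hy0, rfl⟩
      have hset : Nat.card ↥(line G x y0 \ {x}) = 3 := by
        rw [Nat.card_coe_set_eq, Set.ncard_sdiff_singleton_of_mem (left_mem_line x y0),
          P.ncard hy0.symm]
      rw [← hset]
      exact Nat.card_congr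
        { toFun := fun y => ⟨y.1.1, by
              have e : line G x y.1.1 = line G x y0 := congrArg Subtype.val y.2
              exact (Set.ext_iff.1 e _).1 (right_mem_line x y.1.1), y.1.2⟩
          invFun := fun y => ⟨⟨y.1, y.2.2⟩, Subtype.ext
            (h.line_eq hy0.symm (Ne.symm y.2.2) (left_mem_line x y0) y.2.1)⟩
          left_inv := fun y => rfl
          right_inv := fun y => rfl }
    haveI := Fintype.ofFinite Lx
    have e := Nat.card_congr (Equiv.sigmaFiberEquiv toL)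
    rw [Nat.card_sigma, Finset.sum_congr rfl (fun L _ => hfib L), Finset.sum_const, smul_eq_mul,
      Finset.card_univ, ← Nat.card_eq_fintype_card, h15] at e
    omega
  set H := stabilizer G x with hH
  have himg : ∀ (g : ↥H) (y : Ω), y ≠ x → (g : G) • line G x y = line G x ((g : G) • y) ∧
      (g : G) • y ≠ x := by
    intro g y hy
    have gx : (g : G) • x = x := g.2
    refine ⟨Set.ext fun w => ?_, fun e => hy (MulAction.injective (g : G) (e.trans gx.symm))⟩
    rw [Set.mem_smul_set_iff_inv_smul_mem, ← h.smul_line hy.symm (g : G), gx, smul_inv_smul]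
  letI act : MulAction ↥H Lx :=
    { smul := fun g L => ⟨(g : G) • L.1, by
        obtain ⟨y, hy, e⟩ := L.2
        exact ⟨(g : G) • y, (himg g y hy).2, by rw [e, (himg g y hy).1]⟩⟩
      one_smul := fun L => Subtype.ext (one_smul G L.1)
      mul_smul := fun a b L => Subtype.ext (mul_smul (a : G) (b : G) L.1) }
  let φ : ↥H →* Equiv.Perm Lx := toPermHom ↥H Lx
  have hker : ∀ g : ↥H, g ∈ φ.ker ↔ ∀ y : Ω, y ≠ x → (g : G) • line G x y = line G x y := by
    intro g
    rw [MonoidHom.mem_ker, Equiv.ext_iff]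
    refine ⟨fun k y hy => congrArg Subtype.val (k ⟨_, y, hy, rfl⟩), fun k L => ?_⟩
    obtain ⟨y, hy, e⟩ := L.2
    refine Subtype.ext ?_
    show (g : G) • L.1 = L.1
    rw [e, k y hy]
  have hknorm : ∀ g ∈ φ.ker, ∀ (y : Ω) (hy : x ≠ y),
      (g : G) ∈ Subgroup.normalizer (h.four hy : Set G) := by
    intro g hg y hy
    refine (h.mem_normalizer_four hy).2 ⟨by rw [(g.2 : (g : G) • x = x)]; exact left_mem_line x y, ?_⟩
    rw [← (hker g).1 hg y hy.symm]
    exact Set.smul_mem_smul_set (right_mem_line x y)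
  -- the four groups meet the kernel trivially
  have hkfour : ∀ g ∈ φ.ker, ∀ (y : Ω) (hy : x ≠ y), (g : G) ∈ h.four hy → (g : G) = 1 := by
    intro g hg y hy hgV
    by_contra g1
    obtain ⟨y', hy'⟩ : ∃ y', y' ∉ line G x y := by
      by_contra hcon
      push Not at hcon
      have h1 := P.ncard hy
      rw [Set.eq_univ_of_forall hcon, Set.ncard_univ, hn] at h1
      omega
    have hxy' : x ≠ y' := fun e => hy' (e ▸ left_mem_line x y)
    have hmem : (g : G) ∈ h.four hxy' := h.four_max hn hxy' g.2 (k := 1)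
      (by rw [pow_one, pow_two]; exact hgV.2) (hknorm g hg y' hxy')
    refine hy' ?_
    rw [← hF x y hy (g : G) hgV.1 ⟨g1, hgV.2⟩]
    exact (mem_tw.1 hmem.1).2
  have hkcomm : ∀ g ∈ φ.ker, ∀ (y : Ω) (hy : x ≠ y), ∀ v ∈ h.four hy, (g : G) * v = v * g := by
    intro g hg y hy v hv
    have hvH : v ∈ H := (mem_tw.1 hv.1).1
    let c : ↥H := g * ⟨v, hvH⟩ * g⁻¹ * (⟨v, hvH⟩ : ↥H)⁻¹
    have hc : c ∈ φ.ker := by
      have : c = g * (⟨v, hvH⟩ * g⁻¹ * (⟨v, hvH⟩ : ↥H)⁻¹) := by simp [c, mul_assoc]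
      rw [this]
      exact mul_mem hg ((MonoidHom.normal_ker φ).conj_mem _ (inv_mem hg) _)
    have hcV : (c : G) ∈ h.four hy :=
      mul_mem ((Subgroup.mem_normalizer_iff.1 (hknorm g hg y hy) v).1 hv) (inv_mem hv)
    have := hkfour c hc y hy hcV
    exact mul_inv_eq_iff_eq_mul.1 (mul_inv_eq_one.1 this)
  have hkfix : ∀ g ∈ φ.ker, ∀ w : Ω, w ≠ x → (g : G) • w = w → g = 1 := by
    intro g hg w hw hgw
    obtain ⟨v, hv, vi⟩ := h.exists_inv_two hw.symm
    have hvV : v ∈ h.four hw.symm := ⟨hv, vi.2⟩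
    have hgt : (g : G) ∈ tw G x w := mem_tw.2 ⟨g.2, hgw⟩
    have hg2 := h.two_cent hw.symm hv hgt vi (hkcomm g hg w hw.symm v hvV).symm
    exact Subtype.ext (hkfour g hg w hw.symm ⟨hgt, hg2⟩)
  -- the kernel has order three
  have hmul : Nat.card φ.ker * Nat.card φ.range = 180 := by
    rw [← Subgroup.index_ker, Subgroup.card_mul_index, h.card_stabilizer x, hn]
  have hrange : Nat.card φ.range ∣ 120 := by
    have := φ.range.card_subgroup_dvd_card
    rwa [Nat.card_perm, hLx, show Nat.factorial 5 = 120 from rfl] at this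
  have h5 : 5 ∣ Nat.card φ.range := by
    obtain ⟨y0, hy0⟩ := h.exists_ne x
    let L0 : Lx := ⟨_, y0, hy0, rfl⟩
    have horb : orbit ↥H L0 = Set.univ := Set.eq_univ_of_forall fun ⟨L, y, hy, e⟩ => by
      obtain ⟨g, gx, gy⟩ := h.exists_map hy0.symm hy.symm
      refine ⟨⟨g, gx⟩, Subtype.ext ?_⟩
      show g • line G x y0 = L
      rw [(himg ⟨g, gx⟩ y0 hy0).1, gy, e]
    have hst : φ.ker ≤ stabilizer ↥H L0 := fun g hg => Subtype.ext ((hker g).1 hg y0 hy0)
    have h1 := Subgroup.index_dvd_of_le hst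
    rwa [index_stabilizer, horb, Set.ncard_univ, hLx, Subgroup.index_ker] at h1
  have hsemi : Nat.card φ.ker ∣ 15 := by
    letI actY : MulAction ↥φ.ker {y : Ω // y ≠ x} :=
      { smul := fun g y => ⟨((g : ↥H) : G) • y.1, (himg g.1 y.1 y.2).2⟩
        one_smul := fun y => Subtype.ext (one_smul G y.1)
        mul_smul := fun a b y => Subtype.ext (mul_smul ((a : ↥H) : G) ((b : ↥H) : G) y.1) }
    rw [← h15, Nat.card_congr (selfEquivSigmaOrbits ↥φ.ker {y : Ω // y ≠ x})]
    haveI := Fintype.ofFinite (Quotient (orbitRel ↥φ.ker {y : Ω // y ≠ x}))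
    rw [Nat.card_sigma]
    refine Finset.dvd_sum fun o _ => dvd_of_eq ?_
    have hbot : stabilizer ↥φ.ker o.out = ⊥ := by
      rw [eq_bot_iff]
      intro g hg
      exact Subgroup.mem_bot.2 (Subtype.ext (hkfix g.1 g.2 _ o.out.2 (congrArg Subtype.val hg)))
    rw [Nat.card_coe_set_eq, ← index_stabilizer, hbot, Subgroup.index_bot]
  have hk3 : Nat.card φ.ker = 3 := by
    have hk36 : Nat.card φ.ker ∣ 36 := by
      obtain ⟨r, hr⟩ := h5
      exact ⟨r, Nat.eq_of_mul_eq_mul_left (show 0 < 5 by norm_num)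
        (by rw [show 5 * 36 = 180 from rfl, ← hmul, hr]; ring)⟩
    have hd3 : Nat.card φ.ker ∣ 3 := by
      have := Nat.dvd_gcd hsemi hk36
      norm_num at this
      exact this
    refine ((Nat.dvd_prime Nat.prime_three).1 hd3).resolve_left fun e => ?_
    rw [e, one_mul] at hmul
    rw [hmul] at hrange
    norm_num at hrange
  obtain ⟨z, hz⟩ := exists_prime_orderOf_dvd_card' (G := ↥φ.ker) 3 (by rw [hk3])
  have hz1 : z ≠ 1 := fun e => by rw [e, orderOf_one] at hz; omega
  refine ⟨((z : ↥H) : G), ?_, (z : ↥H).2, fun w hw => ?_, fun g gx => ?_⟩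
  · have := congrArg (fun w : ↥φ.ker => ((w : ↥H) : G)) (pow_orderOf_eq_one z)
    rw [hz] at this
    simpa [pow_succ, mul_assoc] using this
  · by_contra hwx
    exact hz1 (Subtype.ext (hkfix z.1 z.2 w hwx hw))
  · -- conjugation acts trivially on the kernel
    let ψ : ↥H →* MulAut ↥φ.ker := MulAut.conjNormal
    haveI : IsCyclic ↥φ.ker := isCyclic_of_prime_card hk3
    have hA : Nat.card (MulAut ↥φ.ker) = 2 := by
      rw [IsCyclic.card_mulAut, hk3, Nat.totient_prime Nat.prime_three]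
    obtain ⟨k, m, hm, hgm⟩ := Nat.exists_eq_two_pow_mul_odd (orderOf_pos g).ne'
    set g' : ↥H := ⟨g, gx⟩
    have hpow : ∀ a : MulAut ↥φ.ker, a ^ 2 = 1 := fun a => by
      rw [← hA]; exact pow_card_eq_one'
    obtain ⟨j, rfl⟩ := hm
    have hψ : ψ g' = ψ (g' ^ (2 * j + 1)) := by
      rw [map_pow, pow_succ, pow_mul, hpow, one_pow, one_mul]
    have h2el : (g ^ (2 * j + 1)) ^ (2 ^ k) = 1 := by
      rw [← pow_mul, mul_comm, ← hgm, pow_orderOf_eq_one]
    have hfx : (g ^ (2 * j + 1)) • x = x := (g' ^ (2 * j + 1)).2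
    have hcz : ((z : ↥H) : G) * g ^ (2 * j + 1) = g ^ (2 * j + 1) * ((z : ↥H) : G) := by
      set c := g ^ (2 * j + 1)
      by_cases c1 : c = 1
      · rw [c1, mul_one, one_mul]
      haveI : Fact (Nat.Prime 2) := ⟨Nat.prime_two⟩
      obtain ⟨i, -, hi⟩ := (Nat.dvd_prime_pow Nat.prime_two).1 (orderOf_dvd_of_pow_eq_one h2el)
      have hdvd : 2 ∣ orderOf c := by
        rcases i with _ | i
        · rw [pow_zero, orderOf_eq_one_iff] at hi; exact absurd hi c1
        · exact hi ▸ dvd_pow_self 2 i.succ_ne_zero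
      set d := c ^ (orderOf c / 2)
      have hdo : orderOf d = 2 := orderOf_pow_orderOf_div (orderOf_pos c).ne' hdvd
      have di := inv_of_orderOf hdo
      have dx : d • x = x := (Subgroup.pow_mem (stabilizer G x) hfx _ : d ∈ stabilizer G x)
      obtain ⟨p, hp, dp⟩ := exists_ne_fixed h (h.isT_of_fix hev di dx) x
      have hdV : d ∈ h.four hp.symm := ⟨mem_tw.2 ⟨dx, dp⟩, di.2⟩
      have hcN := h.centralizer_le_normalizer hF hp.symm hdV di.1
        (Subgroup.mem_centralizer_singleton_iff.2 (Commute.self_pow c _).eq)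
      exact hkcomm z.1 z.2 p hp.symm c (h.four_max hn hp.symm hfx h2el hcN)
    have e := congrArg (fun a : MulAut ↥φ.ker => ((a z : ↥H) : G)) hψ
    simp only [ψ, MulAut.conjNormal_apply] at e
    change g * ((z : ↥H) : G) * g⁻¹ = g ^ (2 * j + 1) * ((z : ↥H) : G) * (g ^ (2 * j + 1))⁻¹ at e
    rw [← hcz, mul_inv_cancel_right] at e
    exact mul_inv_eq_iff_eq_mul.1 e

/-- Case C in even degree gives the affine group of the plane over the field with four elements. -/
theorem conclusion_C_even (hC : CaseC G Ω) (hev : Even (Nat.card Ω)) :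
    Nat.card Ω = 16 ∧ ∃ (F : Type) (_ : Field F) (_ : Fintype F), Fintype.card F = 4 ∧
      Nonempty (G ≃* ((Fin 2 → F) ≃ᵃ[F] (Fin 2 → F))) := by
  haveI := h.faithful
  have P := h.caseC_plane hC hev
  have hn : Nat.card Ω = 16 := by rw [P.card]
  refine ⟨hn, ?_⟩
  obtain ⟨E, hEn, hEc, hsq, hcomm, hfree, htr⟩ := P.exists_translations
  obtain ⟨x, -, -⟩ := h.nontriv
  obtain ⟨z, hz3, hzx, hzfix, hzc⟩ := h.exists_homothety hC hev x
  have hG : Nat.card G = 2880 := by rw [h.card_group, hn]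
  exact CaseC.affine_recognition hG E hEn (hEc.trans hn) hsq hcomm hfree htr hz3 hzx hzfix hzc

end Hyp

end Cfsg.Agent.H6.AFour
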