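import Cfsg.Agent.H6.AFour.CaseC.Stab
import Cfsg.Agent.H6.AFour.Thin

/-!
# Case C, even degree: the parameters
-/

set_option autoImplicit false
set_option linter.unusedSectionVars false
set_option linter.style.haveILetI false

namespace Cfsg.Agent.H6.AFour

open MulAction

universe u v

variable {G : Type u} {Ω : Type v} [Group G] [MulAction G Ω]

theorem thin_arith {u m e : ℕ} {ε : ℤ} (hu : 1 ≤ u) (hm : 1 ≤ m) (he : 2 ≤ e)
    (hε : ε = 1 ∨ ε = -1) (hX : u * m = e + 1)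
    (heq : 6 * ((e : ℤ) * e + 1) = (u : ℤ) ^ 2 * ((4 * m + ε) * (4 * m + 2 * ε))) : False := by
  have hX' : (u : ℤ) * m = e + 1 := by exact_mod_cast hX
  have hX3 : (3 : ℤ) ≤ u * m := by rw [hX']; have : (2 : ℤ) ≤ e := (by exact_mod_cast he); linarith
  have hu' : (1 : ℤ) ≤ u := by exact_mod_cast hu
  have hm' : (1 : ℤ) ≤ m := by exact_mod_cast hm
  have he' : (e : ℤ) = u * m - 1 := by linarith
  rw [he'] at heq
  have hsq : (9 : ℤ) ≤ (u * m) ^ 2 := by nlinarith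
  rcases hε with rfl | rfl
  · nlinarith
  · have key : (0 : ℤ) ≤ 10 * (m : ℤ) ^ 2 - 12 * m + 2 := by nlinarith
    nlinarith [mul_nonneg (sq_nonneg (u : ℤ)) key]

namespace Hyp

variable (h : Hyp G Ω) [Finite G] [Finite Ω]
include h

/-- In the thin case the number of fixed points is the square of the line size. -/
theorem thinC_square (hC : CaseC G Ω) (hev : Even (Nat.card Ω)) (hth : ¬ Flat G Ω) {x y : Ω}
    (hxy : x ≠ y) {t : G} (ht : t ∈ h.four hxy) (t1 : t ≠ 1) :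
    fixCard Ω t = (line G x y).ncard * (line G x y).ncard := by
  have hT : IsT Ω t := h.isT_of_mem hxy ht.1 ⟨t1, ht.2⟩
  obtain ⟨hx, hy⟩ := mem_tw.1 ht.1
  obtain ⟨w, hw, w1, wt⟩ := h.exists_third hxy t
  have hwC : w ∈ Subgroup.centralizer ({t} : Set G) :=
    Subgroup.mem_centralizer_singleton_iff.2 (h.four_comm hxy hw ht)
  obtain ⟨htau, hfix⟩ := h.isTau_of_four hth hxy ht t1 hw w1 wt hwC
  have hY := h.two_hyp hth hT
  obtain ⟨J, hJ, hJT, -⟩ := hC x y hxy
  have hJC : J ∈ Subgroup.centralizer ({t} : Set G) :=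
    Subgroup.mem_centralizer_singleton_iff.2 (hJ.2 t ht.1)
  have hJne : toImage Ω t ⟨J, hJC⟩ ≠ 1 := fun k => hxy (by
    have e := toImage_smul t ⟨J, hJC⟩ (⟨x, hx⟩ : fixedBy Ω t)
    rw [k, one_smul] at e
    exact e.trans hJ.1.2)
  have hswap : Two.IsSwap ↥(fixedBy Ω t) (toImage Ω t ⟨J, hJC⟩) := by
    refine ⟨orderOf_eq_prime ?_ hJne, ?_⟩
    · rw [← map_pow, show (⟨J, hJC⟩ : ↥(Subgroup.centralizer ({t} : Set G))) ^ 2 = 1 from
        Subtype.ext (by rw [SubmonoidClass.coe_pow, pow_two]; exact hJ.1.1.2), map_one]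
    · rw [fixCard_toImage]
      refine le_of_eq_of_le ((Set.ncard_eq_zero (Set.toFinite _)).2
        (Set.eq_empty_of_forall_notMem fun z hz => hJT (h.isT_of_fix hev hJ.1.1 hz.2))) zero_le_one
  rcases hY.dichotomy htau with ⟨hall, -⟩ | ⟨hf, -⟩
  · exact absurd hswap (hall _ hswap.1).not_isSwap
  · rw [hfix, pow_two] at hf
    exact hf

theorem caseC_flat (hC : CaseC G Ω) (hev : Even (Nat.card Ω)) : Flat G Ω := by
  by_contra hth
  obtain ⟨x, y, hxy⟩ := h.nontriv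
  obtain ⟨t, ht, ti⟩ := h.exists_inv_two hxy
  have htV : t ∈ h.four hxy := ⟨ht, ti.2⟩
  obtain ⟨u, m, ε, hu, hm, hε, hX, heq⟩ := h.stab_numeric hC hev hxy htV ti.1
  have hf := h.thinC_square hC hev hth hxy htV ti.1
  have he2 := h.two_le_line hxy
  set e := (line G x y).ncard
  refine thin_arith hu hm he2 hε ?_ ?_ (e := e)
  · refine (Nat.eq_of_mul_eq_mul_right (show 0 < e - 1 by omega) ?_).symm
    rw [← hX, hf]
    obtain ⟨i, hi⟩ : ∃ i, e = i + 1 := ⟨e - 1, by omega⟩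
    rw [hi, Nat.add_sub_cancel]
    exact (Nat.sub_eq_of_eq_add (by ring)).symm
  · rw [hf] at heq
    push_cast at heq
    linarith

theorem caseC_fix_four (hC : CaseC G Ω) (hev : Even (Nat.card Ω)) {t : G} (ht : IsT Ω t) :
    fixCard Ω t = 4 := by
  obtain ⟨ti, x, y, hxy, hx, hy⟩ := ht
  have htV : t ∈ h.four hxy := ⟨mem_tw.2 ⟨hx, hy⟩, ti.2⟩
  have hT : IsT Ω t := h.isT_of_mem hxy htV.1 ti
  obtain ⟨u, m, ε, hu, hm, hε, hX, heq⟩ := h.stab_numeric hC hev hxy htV ti.1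
  have he : (line G x y).ncard = fixCard Ω t := h.line_card_of_flat (h.caseC_flat hC hev) hxy hT
  have hf2 := two_le_fixCard h hT
  rw [he] at hX
  have hum : u * m = 1 := (Nat.eq_of_mul_eq_mul_right (show 0 < fixCard Ω t - 1 by omega)
    (by rw [one_mul]; exact hX)).symm
  obtain ⟨rfl, rfl⟩ := mul_eq_one.1 hum
  rcases hε with rfl | rfl <;> norm_num at heq <;> omega

end Hyp

end Cfsg.Agent.H6.AFour
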