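import Cfsg.Agent.H6.AFour.CaseC.KleinOrder
import Cfsg.Agent.H6.AFour.Lines
import Cfsg.Agent.H6.AFour.Count

/-!
# The point stabiliser in case C, even degree
-/

set_option autoImplicit false
set_option linter.unusedSectionVars false
set_option linter.style.haveILetI false

namespace Cfsg.Agent.H6.AFour

open MulAction

universe u v

variable {G : Type u} {Ω : Type v} [Group G] [MulAction G Ω]

namespace Hyp

variable (h : Hyp G Ω) [Finite G] [Finite Ω]
include h

theorem caseC_even_fix (hev : Even (Nat.card Ω)) {t : G} (ht : IsT Ω t) : Even (fixCard Ω t) := by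
  have := fixCard_mod_two (Ω := Ω) ht.1
  rw [Nat.even_iff.1 hev] at this
  exact Nat.even_iff.2 this

/-- In even degree an involution fixing a point fixes at least two. -/
theorem isT_of_fix (hev : Even (Nat.card Ω)) {g : G} (gi : Inv g) {x : Ω} (hx : g • x = x) :
    IsT Ω g := by
  by_contra hg
  have h1 := fixCard_le_one gi hg
  have h2 := fixCard_mod_two (Ω := Ω) gi
  rw [Nat.even_iff.1 hev] at h2
  have : 0 < fixCard Ω g := by
    rw [fixCard, Nat.card_coe_set_eq]
    exact (Set.ncard_pos (Set.toFinite _)).2 ⟨x, hx⟩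
  omega

/-- The centraliser of a four group in the normaliser, with a fixed point. -/
theorem card_cent_normalizer_stab {x y : Ω} (hxy : x ≠ y) {t : G} (ht : t ∈ h.four hxy) (t1 : t ≠ 1) :
    Nat.card ↥(Subgroup.centralizer ({t} : Set G) ⊓ Subgroup.normalizer (h.four hxy : Set G) ⊓
        stabilizer G x) = 4 * ((line G x y).ncard - 1) := by
  set K := Subgroup.centralizer ({t} : Set G) ⊓ Subgroup.normalizer (h.four hxy : Set G) with hK
  have h1 := h.card_cent_normalizer hxy ht t1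
  rw [← hK] at h1
  have h2 := card_eq_orbit_mul K x (line G x y) fun z => ⟨fun hz => ?_, ?_⟩
  · rw [h1] at h2
    have h2' := h.two_le_line hxy
    refine Nat.eq_of_mul_eq_mul_left (show 0 < (line G x y).ncard by omega) ?_
    rw [← h2]; ring
  · by_cases k : z = x
    · exact ⟨1, one_mem _, by rw [one_smul, k]⟩
    obtain ⟨g, hg, gx, gy⟩ := h.witt ⟨t1, ht.2⟩ hxy k (mem_tw.1 ht.1).1 (mem_tw.1 ht.1).2
      (hz t ht.1 ht.2) (mem_tw.1 ht.1).1
    exact ⟨g, ⟨hg, (h.mem_normalizer_four hxy).2 (by rw [gx, gy]; exact ⟨hz, left_mem_line x y⟩)⟩, gx⟩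
  · rintro ⟨g, hg, rfl⟩
    exact ((h.mem_normalizer_four hxy).1 hg.2).1

/-- The numerical conditions from the point stabiliser. -/
theorem stab_numeric (hC : CaseC G Ω) (hev : Even (Nat.card Ω)) {x y : Ω} (hxy : x ≠ y) {t : G}
    (ht : t ∈ h.four hxy) (t1 : t ≠ 1) :
    ∃ (u m : ℕ) (ε : ℤ), 1 ≤ u ∧ 1 ≤ m ∧ (ε = 1 ∨ ε = -1) ∧
      fixCard Ω t - 1 = u * m * ((line G x y).ncard - 1) ∧
      6 * ((fixCard Ω t : ℤ) + 1) = (u : ℤ) ^ 2 * ((4 * m + ε) * (4 * m + 2 * ε)) := by
  classical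
  haveI : Fact (Nat.Prime 2) := ⟨Nat.prime_two⟩
  have hT : IsT Ω t := h.isT_of_mem hxy ht.1 ⟨t1, ht.2⟩
  have hn := h.eq_C hC hT
  have hf2 := two_le_fixCard h hT
  set f := fixCard Ω t with hf
  set H := stabilizer G x with hH
  have hHc : Nat.card ↥H = 12 * (f * f - 1) := by rw [← hn]; exact h.card_stabilizer x
  have hff : Odd (f * f - 1) := by
    rw [hn] at hev
    obtain ⟨c, hc⟩ := hev
    have : 4 ≤ f * f := Nat.mul_le_mul hf2 hf2
    exact ⟨c - 1, by omega⟩
  have hVH : h.four hxy ≤ H := fun v hv => (mem_tw.1 hv.1).1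
  have hVc : Nat.card ↥((h.four hxy).subgroupOf H) = 4 := by
    rw [Nat.card_congr (Subgroup.subgroupOfEquivOfLe hVH).toEquiv, h.card_four' hxy]
  have hVp : IsPGroup 2 ↥((h.four hxy).subgroupOf H) := IsPGroup.of_card (n := 2) hVc
  have hidx : ((h.four hxy).subgroupOf H).index = 3 * (f * f - 1) := by
    have := ((h.four hxy).subgroupOf H).card_mul_index
    rw [hVc, hHc] at this
    omega
  let V : Sylow 2 ↥H := hVp.toSylow (by
    rw [hidx]
    exact fun hd => Nat.not_even_iff_odd.2 ((show Odd 3 by decide).mul hff) (even_iff_two_dvd.2 hd))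
  have hVmem : ∀ g : ↥H, g ∈ (V : Subgroup ↥H) ↔ (g : G) ∈ h.four hxy := fun g => Iff.rfl
  have hexp : ∀ g ∈ (V : Subgroup ↥H), g * g = 1 := fun g hg => Subtype.ext ((hVmem g).1 hg).2
  have hone : ∀ a b : ↥H, orderOf a = 2 → orderOf b = 2 → IsConj a b := by
    intro a b ha hb
    rw [← Subgroup.orderOf_coe] at ha hb
    have hai := inv_of_orderOf ha
    have hbi := inv_of_orderOf hb
    obtain ⟨p, hp, hap⟩ := exists_ne_fixed h (h.isT_of_fix hev hai a.2) x
    obtain ⟨q, hq, hbq⟩ := exists_ne_fixed h (h.isT_of_fix hev hbi b.2) x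
    obtain ⟨g, gx, gp⟩ := h.exists_map hp.symm hq.symm
    have h1 : g * (a : G) * g⁻¹ ∈ tw G x q := by
      have := conj_mem_tw (c := g) (mem_tw.2 ⟨(a.2 : (a : G) • x = x), hap⟩)
      rwa [gx, gp] at this
    obtain ⟨c, hc, hcab⟩ := h.two_conj hq.symm h1 (mem_tw.2 ⟨b.2, hbq⟩) (hai.conj g) hbi
    refine isConj_iff.2 ⟨⟨c, (mem_tw.1 hc).1⟩ * ⟨g, gx⟩, Subtype.ext ?_⟩
    show c * g * (a : G) * (c * g)⁻¹ = b
    rw [← hcab]; group
  let t' : ↥H := ⟨t, hVH ht⟩
  have ht' : t' ∈ (V : Subgroup ↥H) := (hVmem t').2 ht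
  have ht1 : t' ≠ 1 := fun e => t1 (congrArg Subtype.val e)
  obtain ⟨u, m, ε, hu, hm, hε, hCt, hΓ⟩ := CaseC.klein_order V hVc hexp hone ht' ht1
  have hC1 : Nat.card ↥(Subgroup.centralizer ({t'} : Set ↥H)) = 4 * (f - 1) := by
    rw [← h.card_centralizer_stab hT (mem_tw.1 ht.1).1]
    exact Nat.card_congr
      { toFun := fun g => ⟨g.1.1, Subgroup.mem_centralizer_singleton_iff.2
          (congrArg Subtype.val (Subgroup.mem_centralizer_singleton_iff.1 g.2)), g.1.2⟩
        invFun := fun g => ⟨⟨g.1, g.2.2⟩, Subgroup.mem_centralizer_singleton_iff.2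
          (Subtype.ext (Subgroup.mem_centralizer_singleton_iff.1 g.2.1))⟩
        left_inv := fun g => rfl
        right_inv := fun g => rfl }
  have hC2 : Nat.card ↥(Subgroup.centralizer ((V : Subgroup ↥H) : Set ↥H)) =
      4 * ((line G x y).ncard - 1) := by
    rw [← h.card_cent_normalizer_stab hxy ht t1]
    have hto : ∀ g : ↥H, g ∈ Subgroup.centralizer ((V : Subgroup ↥H) : Set ↥H) →
        ∀ v ∈ h.four hxy, (g : G) * v = v * g := fun g hg v hv =>
      (congrArg Subtype.val (Subgroup.mem_centralizer_iff.1 hg ⟨v, hVH hv⟩ hv)).symm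
    refine Nat.card_congr
      { toFun := fun g => ⟨g.1.1, ⟨Subgroup.mem_centralizer_singleton_iff.2 (hto _ g.2 t ht),
          Subgroup.mem_normalizer_iff.2 fun v => ⟨fun hv => ?_, fun hv => ?_⟩⟩, g.1.2⟩
        invFun := fun g => ⟨⟨g.1, g.2.2⟩, CaseC.cent_of_normalizer_fix V hVc hexp ht' ht1 ?_
          (Subtype.ext (Subgroup.mem_centralizer_singleton_iff.1 g.2.1.1))⟩
        left_inv := fun g => rfl
        right_inv := fun g => rfl }
    · rw [hto _ g.2 v hv, mul_inv_cancel_right]; exact hv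
    · have := hto _ g.2 _ hv
      rw [mul_assoc, mul_assoc, mul_right_inj] at this
      have h2 : (g.1 : G) * v = v * g.1 := by
        rw [← mul_assoc] at this
        calc (g.1 : G) * v = (g.1 : G) * v * (g.1 : G)⁻¹ * g.1 := by group
          _ = v * g.1 := by rw [this]; group
      rwa [h2, mul_inv_cancel_right] at hv
    · exact Subgroup.mem_normalizer_iff.2 fun v => Subgroup.mem_normalizer_iff.1 g.2.1.2 (v : G)
  rw [hC1, hC2] at hCt
  refine ⟨u, m, ε, hu, hm, hε, ?_, ?_⟩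
  · refine Nat.eq_of_mul_eq_mul_left (show 0 < 4 by norm_num) ?_
    rw [hCt]; ring
  · have hi := (Subgroup.centralizer ({t'} : Set ↥H)).index_mul_card
    rw [hC1, hHc] at hi
    have hi2 : (Subgroup.centralizer ({t'} : Set ↥H)).index = 3 * (f + 1) := by
      refine Nat.eq_of_mul_eq_mul_right (show 0 < 4 * (f - 1) by omega) (hi.trans ?_)
      obtain ⟨i, hi'⟩ : ∃ i, f = i + 1 := ⟨f - 1, by omega⟩
      rw [hi', Nat.add_sub_cancel, show (i + 1) * (i + 1) - 1 = (i + 1 + 1) * i from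
        Nat.sub_eq_of_eq_add (by ring)]
      ring
    rw [hi2] at hΓ
    push_cast at hΓ
    linear_combination hΓ

end Hyp

end Cfsg.Agent.H6.AFour
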